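import Cfsg.Agent.Lib.SteinbergFlag.Transport

/-!
# Groups of isometries: the unipotent subgroup of a flag is a Sylow subgroup, regular on opposite flags
-/

set_option autoImplicit false
set_option linter.unusedSectionVars false

namespace Cfsg.Agent.Lib.SteinbergFlag

universe u v w

variable {F : Type u} {V : Type v} [Field F] [AddCommGroup V] [Module F V]

/-- A finite group of isometries with enough unipotent elements. -/
structure Action (S : Space F V) (n p : ℕ) (G : Type w) [Group G] [FiniteDimensional F V] where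
  ρ : G →* (V ≃ₗ[F] V)
  iso : ∀ g, S.IsIso (ρ g)
  inj : Function.Injective ρ
  lift : ∀ (Φ : Frame S n) (T : V ≃ₗ[F] V), S.IsIso T → IsUnip Φ.cham T → ∃ g, ρ g = T
  torus : ∀ (Φ : Frame S n) (g : G) (L : ℕ), g ^ p ^ L = 1 → (∀ i, ρ g (Φ.e i) = Φ.e i) →
    (∀ i, ρ g (Φ.f i) = Φ.f i) → g = 1
  flip : (∃ a, a ≠ 0 ∧ S.φ a = 0) ∨ 2 * n < Module.finrank F V ∨
    ∀ g (c : Chamber S n), (∀ k, k < n → (c.map (ρ g) (iso g)).sub k = c.sub k) → c.map (ρ g) (iso g) = c

variable [Finite V] [FiniteDimensional F V] {S : Space F V} {n p : ℕ} {G : Type w} [Group G]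

namespace Action

variable (A : Action S n p G)

/-- The action on flags. -/
def act (g : G) (c : Chamber S n) : Chamber S n := c.map (A.ρ g) (A.iso g)

theorem act_sub (g : G) (c : Chamber S n) (k : ℕ) : (A.act g c).sub k = (c.sub k).map (A.ρ g).toLinearMap :=
  rfl

theorem act_one (c : Chamber S n) : A.act 1 c = c := Chamber.ext' fun k _ => by
  rw [A.act_sub, map_one]
  exact Submodule.map_id _

theorem act_mul (g h : G) (c : Chamber S n) : A.act (g * h) c = A.act g (A.act h c) :=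
  Chamber.ext' fun k _ => by
    rw [A.act_sub, A.act_sub, A.act_sub, map_mul, ← Submodule.map_comp]
    rfl

theorem act_inv_act (g : G) (c : Chamber S n) : A.act g⁻¹ (A.act g c) = c := by
  rw [← A.act_mul, inv_mul_cancel, A.act_one]

theorem act_act_inv (g : G) (c : Chamber S n) : A.act g (A.act g⁻¹ c) = c := by
  rw [← A.act_mul, mul_inv_cancel, A.act_one]

theorem ρ_mul_apply (g h : G) (x : V) : A.ρ (g * h) x = A.ρ g (A.ρ h x) := by
  rw [map_mul]; rfl

theorem ρ_inv_apply (g : G) (x : V) : A.ρ g (A.ρ g⁻¹ x) = x := by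
  rw [← A.ρ_mul_apply, mul_inv_cancel, map_one]; rfl

theorem ρ_inv_apply' (g : G) (x : V) : A.ρ g⁻¹ (A.ρ g x) = x := by
  rw [← A.ρ_mul_apply, inv_mul_cancel, map_one]; rfl

/-- The unipotent subgroup of a flag. -/
def U (c : Chamber S n) : Subgroup G where
  carrier := {g | IsUnip c (A.ρ g)}
  one_mem' := by
    show IsUnip c (A.ρ 1)
    rw [map_one]
    exact ⟨fun k _ x _ => by simp, fun x _ => by simp⟩
  mul_mem' {g h} hg hh := by
    show IsUnip c (A.ρ (g * h))
    refine ⟨fun k hk x hx => ?_, fun x hx => ?_⟩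
    · rw [A.ρ_mul_apply, show A.ρ g (A.ρ h x) - x = (A.ρ g (A.ρ h x) - A.ρ h x) + (A.ρ h x - x) by abel]
      exact Submodule.add_mem _ (hg.1 k hk _ (hh.map_le hk hx)) (hh.1 k hk x hx)
    · rw [A.ρ_mul_apply, show A.ρ g (A.ρ h x) - x = (A.ρ g (A.ρ h x) - A.ρ h x) + (A.ρ h x - x) by abel]
      refine Submodule.add_mem _ (hg.2 _ ?_) (hh.2 x hx)
      rw [show A.ρ h x = (A.ρ h x - x) + x by abel]
      exact Submodule.add_mem _ (c.ts.le_perp S (hh.2 x hx)) hx
  inv_mem' {g} hg := by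
    show IsUnip c (A.ρ g⁻¹)
    refine ⟨fun k hk x hx => ?_, fun x hx => ?_⟩
    · rw [← hg.map_eq (k := k + 1) hk] at hx
      obtain ⟨y, hy, rfl⟩ := Submodule.mem_map.1 hx
      show A.ρ g⁻¹ (A.ρ g y) - A.ρ g y ∈ c.sub k
      rw [A.ρ_inv_apply', ← neg_sub]
      exact Submodule.neg_mem _ (hg.1 k hk y hy)
    · have h1 := (A.iso g).map_perp (c.sub n)
      rw [hg.map_eq le_rfl] at h1
      rw [← h1] at hx
      obtain ⟨y, hy, rfl⟩ := Submodule.mem_map.1 hx
      show A.ρ g⁻¹ (A.ρ g y) - A.ρ g y ∈ c.sub n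
      rw [A.ρ_inv_apply', ← neg_sub]
      exact Submodule.neg_mem _ (hg.2 y hy)

theorem mem_U {c : Chamber S n} {g : G} : g ∈ A.U c ↔ IsUnip c (A.ρ g) := Iff.rfl

theorem act_self {c : Chamber S n} {g : G} (hg : g ∈ A.U c) : A.act g c = c :=
  Chamber.ext' fun k hk => (A.mem_U.1 hg).map_eq hk

theorem conj_mem_U {c : Chamber S n} {g : G} (hg : g ∈ A.U c) (h : G) : h * g * h⁻¹ ∈ A.U (A.act h c) := by
  rw [A.mem_U] at hg ⊢
  refine ⟨fun k hk x hx => ?_, fun x hx => ?_⟩
  · rw [A.act_sub] at hx ⊢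
    obtain ⟨y, hy, rfl⟩ := Submodule.mem_map.1 hx
    refine ⟨A.ρ g y - y, hg.1 k hk y hy, ?_⟩
    show A.ρ h (A.ρ g y - y) = A.ρ (h * g * h⁻¹) (A.ρ h y) - A.ρ h y
    rw [map_sub, A.ρ_mul_apply, A.ρ_mul_apply, A.ρ_inv_apply']
  · rw [A.act_sub, ← (A.iso h).map_perp] at hx
    obtain ⟨y, hy, rfl⟩ := Submodule.mem_map.1 hx
    rw [A.act_sub]
    refine ⟨A.ρ g y - y, hg.2 y hy, ?_⟩
    show A.ρ h (A.ρ g y - y) = A.ρ (h * g * h⁻¹) (A.ρ h y) - A.ρ h y
    rw [map_sub, A.ρ_mul_apply, A.ρ_mul_apply, A.ρ_inv_apply']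

theorem isPGroup_U [Fact p.Prime] [CharP F p] (c : Chamber S n) : IsPGroup p (A.U c) := fun g =>
  ⟨2 * n + 1, Subtype.ext (A.inj (by
    rw [SubgroupClass.coe_pow, map_pow, OneMemClass.coe_one, map_one]
    exact (A.mem_U.1 g.2).pow_eq_one (A.iso _)))⟩

theorem swap_ocham (Φ : Frame S n) : Φ.swap.ocham = Φ.cham := by
  refine Chamber.ext' fun k hk => ?_
  refine Submodule.eq_of_le_of_finrank_le (Submodule.span_le.2 ?_)
    (le_of_eq (by rw [Φ.cham.dim k hk, Φ.swap.ocham.dim k hk]))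
  rintro _ ⟨⟨i, hi⟩, rfl⟩
  exact Submodule.smul_mem _ _ (Φ.e_mem_E hi)

/-- An element of prime power order fixing two opposite flags fixes their frame. -/
theorem fix_e [Fact p.Prime] [CharP F p] (Φ : Frame S n) {g : G} {L : ℕ} (hg : g ^ p ^ L = 1)
    (hc : A.act g Φ.cham = Φ.cham) (hd : A.act g Φ.ocham = Φ.ocham) (i : Fin n) :
    A.ρ g (Φ.e i) = Φ.e i := by
  have hx1 : A.ρ g (Φ.e i) ∈ Φ.E (i.val + 1) := by
    have : A.ρ g (Φ.e i) ∈ (A.act g Φ.cham).sub (i.val + 1) :=
      Submodule.mem_map_of_mem (Φ.e_mem_E (Nat.lt_succ_self _))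
    rwa [hc] at this
  have hx2 : ∀ l : Fin n, l.val < i.val → S.B (A.ρ g (Φ.e i)) (Φ.f l) = 0 := by
    intro l hl
    have : Φ.f l ∈ (A.act g Φ.ocham).sub i.val := by rw [hd]; exact Φ.f_mem_ocham hl
    obtain ⟨y, hy, hy'⟩ := Submodule.mem_map.1 this
    rw [← hy']
    show S.B (A.ρ g (Φ.e i)) (A.ρ g y) = 0
    rw [(A.iso g).1, (Φ.swap.mem_E.1 hy).1, S.B_sum_right]
    refine Finset.sum_eq_zero fun r _ => ?_
    rw [S.B_smul_right]
    by_cases hr : r.val < i.val
    · rw [show S.B (Φ.e i) (Φ.swap.e r) = 0 by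
        show S.B (Φ.e i) (Φ.f r) = 0
        rw [Φ.ef, if_neg fun e => by rw [e] at hr; exact lt_irrefl _ hr], mul_zero]
    · rw [(Φ.swap.mem_E.1 hy).2 r (le_of_not_gt hr), map_zero, zero_mul]
  obtain ⟨h1, h2⟩ := Φ.mem_E.1 hx1
  have hx : A.ρ g (Φ.e i) = S.B (A.ρ g (Φ.e i)) (Φ.f i) • Φ.e i := by
    conv_lhs => rw [h1]
    refine Fintype.sum_eq_single i fun l hl => ?_
    rcases lt_or_gt_of_ne (fun e => hl (Fin.ext e)) with h | h
    · rw [hx2 l h, zero_smul]
    · rw [h2 l h, zero_smul]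
  set a := S.B (A.ρ g (Φ.e i)) (Φ.f i)
  have hk : ∀ k : ℕ, A.ρ (g ^ k) (Φ.e i) = a ^ k • Φ.e i := by
    intro k
    induction k with
    | zero => simp
    | succ k ih =>
      rw [pow_succ', A.ρ_mul_apply, ih, map_smul, hx, smul_smul, pow_succ]
  have h3 := congrArg (fun x => S.B x (Φ.f i)) (hk (p ^ L))
  simp only [hg, map_one, S.B_smul_left, Φ.ef, if_true, mul_one] at h3
  change S.B (Φ.e i) (Φ.f i) = a ^ p ^ L at h3
  rw [Φ.ef, if_pos rfl] at h3
  have : a = 1 := iterateFrobenius_inj F p L (by simp [iterateFrobenius_def, ← h3])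
  rw [hx, this, one_smul]

theorem eq_one_of_fix [Fact p.Prime] [CharP F p] (Φ₀ : Frame S n) {c d : Chamber S n} (hd : Opp c d)
    {g : G} {L : ℕ} (hg : g ^ p ^ L = 1) (hc : A.act g c = c) (hgd : A.act g d = d) : g = 1 := by
  obtain ⟨Φ, rfl⟩ := exists_frame Φ₀ c
  obtain ⟨Φ', -, hc', hd'⟩ := exists_frame_pair Φ hd
  rw [← hc'] at hc
  rw [← hd'] at hgd
  refine A.torus Φ' g L hg (A.fix_e Φ' hg hc hgd) (A.fix_e Φ'.swap hg hgd ?_)
  rw [swap_ocham, hc]

theorem exists_mem_U (Φ : Frame S n) {d : Chamber S n} (hd : Opp Φ.cham d) :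
    ∃ g ∈ A.U Φ.cham, A.act g Φ.ocham = d := by
  obtain ⟨Φ', hcong, -, hd'⟩ := exists_frame_pair Φ hd
  obtain ⟨T, hT, hU, -, hf, -⟩ := exists_transporter Φ Φ' hcong
  obtain ⟨g, rfl⟩ := A.lift Φ T hT hU
  refine ⟨g, hU, ?_⟩
  rw [← hd']
  refine Chamber.ext' fun k hk => ?_
  refine Submodule.eq_of_le_of_finrank_le ?_ (le_of_eq (by rw [(A.act g Φ.ocham).dim k hk, Φ'.ocham.dim k hk]))
  rw [A.act_sub, Submodule.map_le_iff_le_comap]
  refine Submodule.span_le.2 ?_
  rintro _ ⟨⟨i, hi⟩, rfl⟩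
  show A.ρ g (Φ.f i) ∈ Φ'.ocham.sub k
  rw [hf]
  exact Φ'.f_mem_ocham hi

theorem opp_act {c d : Chamber S n} (h : Opp c d) (g : G) : Opp (A.act g c) (A.act g d) := by
  intro k hk
  rw [A.act_sub, A.act_sub, ← (A.iso g).map_perp, ← Submodule.map_inf _ (A.ρ g).injective, h k hk,
    Submodule.map_bot]

/-- `U c` is regular on the flags opposite `c`. -/
noncomputable def oppEquiv [Fact p.Prime] [CharP F p] (Φ : Frame S n) :
    A.U Φ.cham ≃ {d : Chamber S n // Opp Φ.cham d} :=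
  Equiv.ofBijective
    (fun g => ⟨A.act g.1 Φ.ocham, by
      have := A.opp_act Φ.opp g.1
      rwa [A.act_self g.2] at this⟩)
    ⟨fun g h e => by
      have e' := congrArg Subtype.val e
      simp only at e'
      obtain ⟨L, hL⟩ := A.isPGroup_U Φ.cham (h⁻¹ * g)
      have h1 := A.eq_one_of_fix Φ Φ.opp (g := (h⁻¹ * g : A.U Φ.cham).1) (L := L)
        (by rw [← SubgroupClass.coe_pow, hL]; rfl) (A.act_self (h⁻¹ * g).2)
        (by rw [Subgroup.coe_mul, Subgroup.coe_inv, A.act_mul, e', A.act_inv_act])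
      exact Subtype.ext (inv_mul_eq_one.1 (by rwa [Subgroup.coe_mul, Subgroup.coe_inv] at h1)).symm,
    fun d => by
      obtain ⟨g, hg, hgd⟩ := A.exists_mem_U Φ d.2
      exact ⟨⟨g, hg⟩, Subtype.ext hgd⟩⟩

/-- A flag fixed by `U c` agrees with `c`, except possibly at the last step. -/
theorem sub_eq_of_fixed (Φ : Frame S n) {c' : Chamber S n}
    (hfix : ∀ g ∈ A.U Φ.cham, A.act g c' = c') :
    ∀ k, k ≤ n → (k < n ∨ (∃ a, a ≠ 0 ∧ S.φ a = 0) ∨ 2 * n < Module.finrank F V) → c'.sub k = Φ.E k := by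
  classical
  intro k
  induction k with
  | zero => intro _ _; rw [c'.sub_zero]; exact Φ.cham.sub_zero.symm
  | succ j ih =>
    intro hj hrich
    have hj' : c'.sub j = Φ.E j := ih (Nat.le_of_succ_le hj) (Or.inl hj)
    set J : Fin n := ⟨j, hj⟩
    obtain ⟨v, hv, hv'⟩ : ∃ v, v ∈ c'.sub (j + 1) ∧ v ∉ c'.sub j := by
      by_contra h
      push Not at h
      have := Submodule.finrank_mono (show c'.sub (j + 1) ≤ c'.sub j from h)
      rw [c'.dim _ hj, c'.dim _ (Nat.le_of_succ_le hj)] at this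
      omega
    have hvE : v ∈ S.perp (Φ.E j) := by
      rw [← hj']
      exact fun y hy => (c'.ts _ (c'.le_top _ hv)).2 y (c'.le_top _ hy)
    set β := S.τ S.ε * S.B v (Φ.e J)
    have move : ∀ (a : V) (t : F), (∀ i : Fin n, i.val ≤ j → S.B (Φ.e i) a = 0 ∧ S.B (Φ.f i) a = 0) →
        S.N a + S.φ (S.ε * S.τ t) = 0 →
        (-(S.B v a)) • Φ.e J + β • (a + t • Φ.e J) ∈ c'.sub (j + 1) := by
      intro a t ha ht
      obtain ⟨Φ', hcong, he, hfJ, hf⟩ := exists_eichler Φ J a ha t ht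
      obtain ⟨T, hT, hU, hTe, hTf, hTz⟩ := exists_transporter Φ Φ' hcong
      obtain ⟨g, rfl⟩ := A.lift Φ T hT hU
      have hmem : A.ρ g v ∈ c'.sub (j + 1) := by
        rw [← hfix g hU, A.act_sub]
        exact Submodule.mem_map_of_mem hv
      have key : A.ρ g v - v = (-(S.B v a)) • Φ.e J + β • (a + t • Φ.e J) := by
        have hd := Φ.decomp v
        have h1 : ∀ i, A.ρ g (Φ.e i) = Φ.e i + (-(S.B (Φ.e i) a)) • Φ.e J := fun i => by
          rw [hTe, he, neg_smul, sub_eq_add_neg]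
        have h2 : ∀ i, A.ρ g (Φ.f i) = Φ.f i + (-(S.B (Φ.f i) a)) • Φ.e J
            + (if i = J then a + t • Φ.e J else 0) := fun i => by
          rcases eq_or_ne i J with rfl | hi
          · rw [hTf, hfJ, (ha J le_rfl).2, if_pos rfl, neg_zero, zero_smul, add_zero, add_assoc]
          · rw [hTf, hf i hi, if_neg hi, add_zero, neg_smul, sub_eq_add_neg]
        have h3 : A.ρ g (Φ.comp v) = Φ.comp v + (-(S.B (Φ.comp v) a)) • Φ.e J := by
          rw [hTz _ (Φ.comp_orth v), Finset.sum_eq_single J]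
          · rw [hfJ, he J, (ha J le_rfl).1, zero_smul, sub_zero, S.B_add_right, S.B_add_right,
              S.B_smul_right, (Φ.comp_orth v J).1, (Φ.comp_orth v J).2, mul_zero, zero_add, add_zero,
              neg_smul, sub_eq_add_neg]
          · intro i _ hi
            rw [hf i hi, S.B_sub_right, S.B_smul_right, (Φ.comp_orth v i).2, (Φ.comp_orth v J).1,
              mul_zero, sub_zero, zero_smul]
          · intro h; exact absurd (Finset.mem_univ _) h
        have hB : S.B v a = ∑ i, S.B v (Φ.f i) * S.B (Φ.e i) a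
            + ∑ i, (S.τ S.ε * S.B v (Φ.e i)) * S.B (Φ.f i) a + S.B (Φ.comp v) a := by
          conv_lhs => rw [hd]
          simp only [S.B_add_left, S.B_sum_left, S.B_smul_left]
        have hlin : A.ρ g v = ∑ i, S.B v (Φ.f i) • A.ρ g (Φ.e i)
            + ∑ i, (S.τ S.ε * S.B v (Φ.e i)) • A.ρ g (Φ.f i) + A.ρ g (Φ.comp v) := by
          conv_lhs => rw [hd]
          simp only [map_add, map_sum, map_smul]
        rw [hlin, sub_eq_iff_eq_add]
        conv_rhs => arg 2; rw [hd]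
        simp only [h1, h2, h3, smul_add, Finset.sum_add_distrib, smul_ite, smul_zero, Finset.sum_ite_eq',
          Finset.mem_univ, if_true, smul_smul]
        rw [hB]
        simp only [← Finset.sum_smul, mul_neg, Finset.sum_neg_distrib]
        simp only [neg_smul, add_smul, neg_add_rev]
        abel
      rw [← key]
      exact Submodule.sub_mem _ hmem hv
    have hsol : ∀ a, ∃ t, S.N a + S.φ (S.ε * S.τ t) = 0 := fun a => by
      obtain ⟨x, hx⟩ := S.φ_sol a
      refine ⟨S.ε * S.τ x, ?_⟩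
      rw [map_mul, S.τ_inv, ← mul_assoc, Φ.eps_mul J, one_mul, hx]
    have hvN := (c'.ts _ (c'.le_top _ hv)).1
    by_cases hβ : β = 0
    · by_cases hex : ∃ a, (∀ i : Fin n, i.val ≤ j → S.B (Φ.e i) a = 0 ∧ S.B (Φ.f i) a = 0) ∧ S.B v a ≠ 0
      · obtain ⟨a, ha, hva⟩ := hex
        obtain ⟨t, ht⟩ := hsol a
        have := move a t ha ht
        rw [hβ, zero_smul, add_zero, Submodule.smul_mem_iff _ (neg_ne_zero.2 hva)] at this
        have hout : Φ.e J ∉ c'.sub j := by
          rw [hj']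
          intro h
          have := (Φ.mem_E.1 h).2 J le_rfl
          rw [Φ.ef, if_pos rfl] at this
          exact one_ne_zero this
        rw [← c'.succ_eq hj this hout, hj']
        exact Φ.cham.succ_eq hj (Φ.e_mem_E (Nat.lt_succ_self j))
          (by rw [show Φ.cham.sub j = c'.sub j from hj'.symm]; exact hout)
      · push Not at hex
        have hvn : v ∈ Φ.E n := by
          refine Φ.mem_E_of_singular (Φ.mem_perp_E.2 fun i _ => ?_) hvN
          rcases lt_trichotomy i.val j with h | h | h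
          · exact Φ.mem_perp_E.1 hvE i h
          · rw [show i = J from Fin.ext h]
            have h1 : S.τ S.ε ≠ 0 := fun e => by simpa [e] using Φ.eps_mul J
            exact (mul_eq_zero.1 hβ).resolve_left h1
          · refine hex _ fun l hl => ⟨Φ.ee l i, ?_⟩
            rw [Φ.fe, if_neg fun e => by rw [e] at hl; omega]
        have hvj : v ∈ Φ.E (j + 1) := Φ.mem_E.2 ⟨(Φ.mem_E.1 hvn).1, fun i hi => hex _ fun l hl => by
          refine ⟨?_, Φ.ff l i⟩
          rw [Φ.ef, if_neg fun e => by rw [e] at hl; omega]⟩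
        rw [← c'.succ_eq hj hv hv', hj']
        exact Φ.cham.succ_eq hj hvj (by rw [show Φ.cham.sub j = c'.sub j from hj'.symm]; exact hv')
    · exfalso
      have step : ∀ a t, (∀ i : Fin n, i.val ≤ j → S.B (Φ.e i) a = 0 ∧ S.B (Φ.f i) a = 0) →
          S.N a + S.φ (S.ε * S.τ t) = 0 →
          (-(S.B v a)) • Φ.e J + β • (a + t • Φ.e J) ∈ Φ.E j := by
        intro a t ha ht
        have hy := move a t ha ht
        rw [← c'.succ_eq hj hv hv', hj'] at hy
        obtain ⟨u, hu, w, hw, huw⟩ := Submodule.mem_sup.1 hy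
        obtain ⟨r, rfl⟩ := Submodule.mem_span_singleton.1 hw
        have h1 := congrArg (fun x => S.B x (Φ.e J)) huw
        simp only [S.B_add_left, S.B_smul_left, Φ.ee, (Φ.ts_E n _ (Φ.E_mono (Nat.le_of_succ_le hj) hu)).2 _ (Φ.e_mem_E J.2),
          S.B_eq_zero_symm (ha J le_rfl).1, mul_zero, add_zero, zero_add] at h1
        have hvJ : S.B v (Φ.e J) ≠ 0 := fun e => hβ (by simp [β, e])
        rw [(mul_eq_zero.1 h1).resolve_right hvJ, zero_smul, add_zero] at huw
        rw [← huw]; exact hu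
      rcases lt_or_eq_of_le hj with hlt | heq
      · -- another vector `e`
        set K : Fin n := ⟨j + 1, hlt⟩
        obtain ⟨t, ht⟩ := hsol (Φ.e K)
        have hm := step (Φ.e K) t (fun i hi => ⟨Φ.ee i K, by
          rw [Φ.fe, if_neg fun e => by rw [e] at hi; simp [K] at hi]⟩) ht
        have h2 := (Φ.mem_E.1 hm).2 K (Nat.le_succ j)
        have hJK : J ≠ K := fun e => by simp [J, K] at e
        simp [S.B_add_left, S.B_smul_left, S.B_neg_left, Φ.ef, hJK] at h2
        exact hβ h2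
      rcases hrich with h | ⟨a₀, ha₀, hφ⟩ | hdim
      · omega
      · have hτε : S.τ S.ε ≠ 0 := fun e => by simpa [e] using Φ.eps_mul J
        set t := S.ε * S.τ a₀ with htdef
        have ht : S.N (0 : V) + S.φ (S.ε * S.τ t) = 0 := by
          rw [S.N_zero, htdef, map_mul, S.τ_inv, ← mul_assoc, Φ.eps_mul J, one_mul, hφ, add_zero]
        have hm := step 0 t (fun i _ => ⟨S.B_zero_right _, S.B_zero_right _⟩) ht
        have h2 := (Φ.mem_E.1 hm).2 J le_rfl
        simp [S.B_add_left, S.B_smul_left, Φ.ef, S.B_zero_right, S.B_zero_left] at h2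
        rcases h2 with h2 | h2
        · exact hβ h2
        · exact mul_ne_zero (Φ.eps_ne_zero J) (by simpa using ha₀) h2
      · obtain ⟨a, ha0, ha⟩ : ∃ a : V, a ≠ 0 ∧ ∀ i, S.B a (Φ.e i) = 0 ∧ S.B a (Φ.f i) = 0 := by
          by_contra hno
          push Not at hno
          have hspan : (⊤ : Submodule F V) ≤ Submodule.span F (Set.range (Sum.elim Φ.e Φ.f)) := by
            intro x _
            have hz : Φ.comp x = 0 := by
              by_contra h0
              obtain ⟨i, hi⟩ := hno _ h0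
              exact hi (Φ.comp_orth x i).1 (Φ.comp_orth x i).2
            rw [Φ.decomp x, hz, add_zero]
            exact Submodule.add_mem _
              (Submodule.sum_mem _ fun i _ => Submodule.smul_mem _ _ (Submodule.subset_span ⟨.inl i, rfl⟩))
              (Submodule.sum_mem _ fun i _ => Submodule.smul_mem _ _ (Submodule.subset_span ⟨.inr i, rfl⟩))
          have h1 := (Submodule.finrank_mono hspan).trans (finrank_range_le_card (Sum.elim Φ.e Φ.f))
          rw [finrank_top, Fintype.card_sum, Fintype.card_fin] at h1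
          omega
        obtain ⟨t, ht⟩ := hsol a
        have ha' : ∀ i, S.B (Φ.e i) a = 0 ∧ S.B (Φ.f i) a = 0 :=
          fun i => ⟨S.B_eq_zero_symm (ha i).1, S.B_eq_zero_symm (ha i).2⟩
        have hm := step a t (fun i _ => ha' i) ht
        have hsum : β • a ∈ Φ.E n := by
          have h3 := Submodule.sub_mem _ (Φ.E_mono (Nat.le_of_succ_le hj) hm)
            (Submodule.add_mem _ (Submodule.smul_mem _ (-(S.B v a)) (Φ.e_mem_E J.2))
              (Submodule.smul_mem _ (β * t) (Φ.e_mem_E J.2)))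
          rw [smul_add, smul_smul] at h3
          convert h3 using 1
          abel
        rw [Submodule.smul_mem_iff _ hβ] at hsum
        refine ha0 ((Φ.mem_E.1 hsum).1.trans (Finset.sum_eq_zero fun i _ => ?_))
        rw [(ha i).2, zero_smul]

/-- Elements mapping `c` to a flag fixed by `U c` fix `c`. -/
theorem act_eq_of_fixed (Φ₀ : Frame S n) {c : Chamber S n} {g : G}
    (h : ∀ u ∈ A.U c, A.act u (A.act g c) = A.act g c) : A.act g c = c := by
  obtain ⟨Φ, rfl⟩ := exists_frame Φ₀ c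
  rcases A.flip with hr | hr | hr
  · exact Chamber.ext' fun k hk => A.sub_eq_of_fixed Φ h k hk (Or.inr (Or.inl hr))
  · exact Chamber.ext' fun k hk => A.sub_eq_of_fixed Φ h k hk (Or.inr (Or.inr hr))
  · exact hr g _ fun k hk => A.sub_eq_of_fixed Φ h k hk.le (Or.inl hk)

/-- Central elements fix every flag. -/
theorem act_center (Φ₀ : Frame S n) {z : G} (hz : z ∈ Subgroup.center G) (c : Chamber S n) : A.act z c = c := by
  refine A.act_eq_of_fixed Φ₀ fun u hu => ?_
  rw [← A.act_mul, Subgroup.mem_center_iff.1 hz u, A.act_mul, A.act_self hu]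

/-- `U c` is a Sylow subgroup. -/
theorem exists_sylow [Finite G] [Fact p.Prime] [CharP F p] (Φ₀ : Frame S n) (c : Chamber S n) :
    ∃ P : Sylow p G, (P : Subgroup G) = A.U c := by
  obtain ⟨Φ, rfl⟩ := exists_frame Φ₀ c
  obtain ⟨P, hP⟩ := (A.isPGroup_U Φ.cham).exists_le_sylow
  refine ⟨P, le_antisymm ?_ hP⟩
  by_contra hne
  haveI : Group.IsNilpotent (P : Subgroup G) := P.isPGroup'.isNilpotent
  set U' := (A.U Φ.cham).subgroupOf (P : Subgroup G)
  have hlt : U' < ⊤ := lt_top_iff_ne_top.2 fun e => hne fun x hx => by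
    have : (⟨x, hx⟩ : (P : Subgroup G)) ∈ U' := e ▸ Subgroup.mem_top _
    exact this
  obtain ⟨x, hxN, hxU⟩ := SetLike.exists_of_lt
    (normalizerCondition_of_isNilpotent U' hlt)
  have hfix : A.act x.1 Φ.cham = Φ.cham := by
    refine A.act_eq_of_fixed Φ₀ fun u hu => ?_
    have h1 : x⁻¹ * ⟨u, hP hu⟩ * x ∈ U' := by
      rw [Subgroup.mem_normalizer_iff''] at hxN
      exact (hxN ⟨u, hP hu⟩).1 hu
    rw [← A.act_mul, show u * x.1 = x.1 * (x.1⁻¹ * u * x.1) by group, A.act_mul,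
      A.act_self (show x.1⁻¹ * u * x.1 ∈ A.U Φ.cham from h1)]
  have hQc : ∀ y ∈ A.U Φ.cham ⊔ Subgroup.zpowers x.1, A.act y Φ.cham = Φ.cham := by
    let St : Subgroup G :=
      { carrier := {y | A.act y Φ.cham = Φ.cham}
        one_mem' := A.act_one _
        mul_mem' := fun {a b} (ha : A.act a Φ.cham = Φ.cham) (hb : A.act b Φ.cham = Φ.cham) => by
          show A.act (a * b) Φ.cham = Φ.cham
          rw [A.act_mul, hb, ha]
        inv_mem' := fun {a} (ha : A.act a Φ.cham = Φ.cham) => by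
          show A.act a⁻¹ Φ.cham = Φ.cham
          conv_lhs => rw [← ha]
          exact A.act_inv_act a _ }
    have : A.U Φ.cham ⊔ Subgroup.zpowers x.1 ≤ St :=
      sup_le (fun y hy => A.act_self hy) (Subgroup.zpowers_le.2 hfix)
    exact fun y hy => this hy
  set Q := A.U Φ.cham ⊔ Subgroup.zpowers x.1
  have hQP : Q ≤ (P : Subgroup G) := sup_le hP (Subgroup.zpowers_le.2 x.2)
  have hcard : Nat.card Q ≤ Nat.card (A.U Φ.cham) := by
    rw [Nat.card_congr (A.oppEquiv Φ)]
    refine Nat.card_le_card_of_injective (fun g : Q => (⟨A.act g.1 Φ.ocham, by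
      have := A.opp_act Φ.opp g.1
      rwa [hQc g.1 g.2] at this⟩ : {d : Chamber S n // Opp Φ.cham d})) fun g h e => ?_
    have e' := congrArg Subtype.val e
    simp only at e'
    have hm : h.1⁻¹ * g.1 ∈ Q := Q.mul_mem (Q.inv_mem h.2) g.2
    obtain ⟨L, hL⟩ := P.isPGroup' ⟨_, hQP hm⟩
    have h1 := A.eq_one_of_fix Φ Φ.opp (L := L) (congrArg Subtype.val hL) (hQc _ hm)
      (by rw [A.act_mul, e', A.act_inv_act])
    exact Subtype.ext (inv_mul_eq_one.1 h1).symm
  have : Q = A.U Φ.cham := (Subgroup.eq_of_le_of_card_ge le_sup_left hcard).symm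
  exact hxU (this ▸ Subgroup.mem_sup_right (Subgroup.mem_zpowers x.1) : x.1 ∈ A.U Φ.cham)

end Action

end Cfsg.Agent.Lib.SteinbergFlag
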