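import Cfsg.Agent.Lib.SteinbergFlag.Transport

/-!
# The anisotropic complement of a frame
-/

set_option autoImplicit false
set_option linter.unusedSectionVars false

namespace Cfsg.Agent.Lib.SteinbergFlag

universe u v

variable {F : Type u} {V : Type v} [Field F] [AddCommGroup V] [Module F V] [FiniteDimensional F V]
variable {S : Space F V} {n : ℕ}

/-- Coordinates with respect to a frame. -/
def Frame.coord (Φ : Frame S n) : V →ₗ[F] (Fin n ⊕ Fin n → F) :=
  LinearMap.pi (Sum.elim (fun i => S.Bl (Φ.f i)) (fun i => S.Bl (Φ.e i)))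

/-- The anisotropic complement. -/
def Frame.aniSpace (Φ : Frame S n) : Submodule F V := LinearMap.ker Φ.coord

theorem Frame.mem_aniSpace (Φ : Frame S n) {z : V} :
    z ∈ Φ.aniSpace ↔ ∀ i, S.B z (Φ.e i) = 0 ∧ S.B z (Φ.f i) = 0 := by
  rw [Frame.aniSpace, LinearMap.mem_ker, funext_iff]
  constructor
  · exact fun h i => ⟨h (.inr i), h (.inl i)⟩
  · rintro h (i | i)
    · exact (h i).2
    · exact (h i).1

theorem Frame.finrank_aniSpace (Φ : Frame S n) :
    2 * n + Module.finrank F Φ.aniSpace = Module.finrank F V := by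
  have hsurj : Function.Surjective Φ.coord := by
    intro y
    refine ⟨∑ i, y (.inl i) • Φ.e i + ∑ i, (S.τ S.ε * y (.inr i)) • Φ.f i, funext fun l => ?_⟩
    rcases l with i | i
    · show S.B _ (Φ.f i) = _
      rw [S.B_add_left, Φ.B_sum_e_left, Φ.B_sum_f_f, add_zero]
    · show S.B _ (Φ.e i) = _
      rw [S.B_add_left, Φ.B_sum_e_e, Φ.B_sum_f_left, zero_add]
      linear_combination (y (.inr i)) * Φ.eps_mul i
  have h := Φ.coord.finrank_range_add_finrank_ker
  rw [LinearMap.range_eq_top.2 hsurj, finrank_top, Module.finrank_fintype_fun_eq_card,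
    Fintype.card_sum, Fintype.card_fin] at h
  rw [Frame.aniSpace]
  omega

theorem Frame.map_aniSpace (Φ : Frame S n) {T : V ≃ₗ[F] V} (hT : S.IsIso T)
    (he : ∀ i, T (Φ.e i) = Φ.e i) (hf : ∀ i, T (Φ.f i) = Φ.f i) {z : V} (hz : z ∈ Φ.aniSpace) :
    T z ∈ Φ.aniSpace := by
  rw [Φ.mem_aniSpace] at hz ⊢
  intro i
  refine ⟨?_, ?_⟩
  · rw [← he i, hT.1]; exact (hz i).1
  · rw [← hf i, hT.1]; exact (hz i).2

theorem Frame.eq_one_of_fix (Φ : Frame S n) {T : V ≃ₗ[F] V}
    (he : ∀ i, T (Φ.e i) = Φ.e i) (hf : ∀ i, T (Φ.f i) = Φ.f i) (hz : ∀ z ∈ Φ.aniSpace, T z = z) :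
    T = 1 := by
  refine LinearEquiv.ext fun v => ?_
  show T v = v
  conv_rhs => rw [Φ.decomp v]
  conv_lhs => rw [Φ.decomp v]
  simp only [map_add, map_sum, map_smul, he, hf, hz _ (Φ.mem_aniSpace.2 (Φ.comp_orth v))]

theorem pow_apply_smul {T : V ≃ₗ[F] V} {x : V} {a : F} (h : T x = a • x) (k : ℕ) :
    (T ^ k) x = a ^ k • x := by
  induction k with
  | zero => simp
  | succ k ih =>
    rw [pow_succ']
    show T ((T ^ k) x) = _
    rw [ih, map_smul, h, smul_smul, pow_succ]

/-- With anisotropic part of dimension at most one, the pointwise stabiliser of the frame has no `p`-elements. -/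
theorem Frame.eq_one_of_small (Φ : Frame S n) (hdim : Module.finrank F V ≤ 2 * n + 1) {p : ℕ}
    [Fact p.Prime] [CharP F p] {T : V ≃ₗ[F] V} (hT : S.IsIso T) {L : ℕ} (hp : T ^ p ^ L = 1)
    (he : ∀ i, T (Φ.e i) = Φ.e i) (hf : ∀ i, T (Φ.f i) = Φ.f i) : T = 1 := by
  refine Φ.eq_one_of_fix he hf fun z hz => ?_
  rcases eq_or_ne z 0 with rfl | hz0
  · exact map_zero T
  have h1 := Φ.finrank_aniSpace
  have hle : Module.finrank F Φ.aniSpace ≤ Module.finrank F (Submodule.span F {z}) := by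
    rw [finrank_span_singleton hz0]; omega
  have hspan : Submodule.span F {z} = Φ.aniSpace :=
    Submodule.eq_of_le_of_finrank_le ((Submodule.span_singleton_le_iff_mem _ _).2 hz) hle
  have hTz : T z ∈ Submodule.span F {z} := hspan ▸ Φ.map_aniSpace hT he hf hz
  obtain ⟨a, ha⟩ := Submodule.mem_span_singleton.1 hTz
  have h2 := pow_apply_smul ha.symm (p ^ L)
  rw [hp] at h2
  have h3 : a ^ p ^ L = 1 := by
    have h4 : ((1 : F) - a ^ p ^ L) • z = 0 := by
      rw [sub_smul, one_smul, ← h2]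
      exact sub_self z
    exact (sub_eq_zero.1 ((smul_eq_zero.1 h4).resolve_right hz0)).symm
  have ha1 : a = 1 := iterateFrobenius_inj F p L (by simp [iterateFrobenius_def, h3])
  rw [← ha, ha1, one_smul]

end Cfsg.Agent.Lib.SteinbergFlag
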