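import Cfsg.Agent.Lib.SteinbergFlag.Space

/-!
# Maximal singular flags, opposition, and frames through one or two flags
-/

set_option autoImplicit false
set_option linter.unusedSectionVars false

namespace Cfsg.Agent.Lib.SteinbergFlag

universe u v

variable {F : Type u} {V : Type v} [Field F] [AddCommGroup V] [Module F V]

/-- A complete flag of totally singular subspaces of dimensions up to `n`. -/
structure Chamber (S : Space F V) (n : ℕ) where
  sub : ℕ → Submodule F V
  dim : ∀ k, k ≤ n → Module.finrank F (sub k) = k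
  mono : Monotone sub
  top : ∀ k, n ≤ k → sub k = sub n
  ts : S.TS (sub n)

variable {S : Space F V} {n : ℕ}

namespace Chamber

theorem ext' {c d : Chamber S n} (h : ∀ k, k ≤ n → c.sub k = d.sub k) : c = d := by
  have hs : c.sub = d.sub := funext fun k => by
    rcases le_or_gt k n with hk | hk
    · exact h k hk
    · rw [c.top k hk.le, d.top k hk.le, h n le_rfl]
  cases c; cases d; cases hs; rfl

theorem le_top (c : Chamber S n) (k : ℕ) : c.sub k ≤ c.sub n := by
  rcases le_or_gt k n with hk | hk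
  · exact c.mono hk
  · rw [c.top k hk.le]

theorem ts_sub (c : Chamber S n) (k : ℕ) : S.TS (c.sub k) := c.ts.mono S (c.le_top k)

instance instFiniteChamber [Finite V] : Finite (Chamber S n) := by
  refine Finite.of_injective (fun (c : Chamber S n) (k : Fin (n + 1)) => ((c.sub k : Submodule F V) : Set V)) ?_
  exact fun c d h => ext' fun k hk => SetLike.coe_injective (congrFun h ⟨k, Nat.lt_succ_of_le hk⟩)

variable [FiniteDimensional F V]

theorem sub_zero (c : Chamber S n) : c.sub 0 = ⊥ := Submodule.finrank_eq_zero.1 (c.dim 0 (Nat.zero_le n))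

/-- A vector outside the previous step generates the next one. -/
theorem succ_eq (c : Chamber S n) {k : ℕ} (hk : k < n) {x : V} (hx : x ∈ c.sub (k + 1))
    (hx' : x ∉ c.sub k) : c.sub k ⊔ Submodule.span F {x} = c.sub (k + 1) := by
  refine Submodule.eq_of_le_of_finrank_le (sup_le (c.mono k.le_succ)
    ((Submodule.span_singleton_le_iff_mem _ _).2 hx)) ?_
  rw [c.dim (k + 1) hk]
  have hlt : c.sub k < c.sub k ⊔ Submodule.span F {x} :=
    lt_of_le_of_ne le_sup_left fun e => hx' (e ▸ Submodule.mem_sup_right (Submodule.mem_span_singleton_self x))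
  have := Submodule.finrank_lt_finrank_of_lt hlt
  rw [c.dim k hk.le] at this
  omega

end Chamber

/-- The flag spanned by the `e`'s of a frame. -/
def Frame.cham (Φ : Frame S n) : Chamber S n where
  sub := Φ.E
  dim _ hk := Φ.finrank_E hk
  mono := Φ.E_mono
  top _ hk := Φ.E_eq_top hk
  ts := Φ.ts_E n

/-- The frame with the two halves exchanged. -/
def Frame.swap (Φ : Frame S n) : Frame S n where
  e := Φ.f
  f i := S.ε • Φ.e i
  Ne := Φ.Nf
  Nf i := by rw [S.N_smul, Φ.Ne, mul_zero]
  ee := Φ.ff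
  ff i j := by rw [S.B_smul_left, S.B_smul_right, Φ.ee, mul_zero, mul_zero]
  ef i j := by
    rw [S.B_smul_right, Φ.fe]
    split_ifs with h
    · rw [mul_comm]; exact Φ.eps_mul i
    · rw [mul_zero]
  aniso z hz hN := by
    refine Φ.aniso z (fun i => ⟨?_, (hz i).1⟩) hN
    have h := (hz i).2
    rw [S.B_smul_right] at h
    exact (mul_eq_zero.1 h).resolve_left fun h0 => by
      have := Φ.eps_mul i
      rw [h0, mul_zero] at this
      exact zero_ne_one this

/-- The flag spanned by the `f`'s of a frame. -/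
def Frame.ocham (Φ : Frame S n) : Chamber S n := Φ.swap.cham

/-- Opposition of flags. -/
def Opp (c d : Chamber S n) : Prop := ∀ k, k ≤ n → d.sub k ⊓ S.perp (c.sub k) = ⊥

theorem Frame.f_mem_ocham (Φ : Frame S n) {i : Fin n} {k : ℕ} (h : i.val < k) : Φ.f i ∈ Φ.ocham.sub k :=
  Φ.swap.e_mem_E h

theorem Frame.opp (Φ : Frame S n) : Opp Φ.cham Φ.ocham := by
  intro k _
  refine eq_bot_iff.2 fun v hv => ?_
  obtain ⟨h1, h2⟩ := hv
  obtain ⟨hv1, hv2⟩ := Φ.swap.mem_E.1 h1
  rw [Submodule.mem_bot, hv1]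
  refine Finset.sum_eq_zero fun i _ => ?_
  have hi : S.B v (Φ.swap.f i) = 0 := by
    by_cases hik : i.val < k
    · show S.B v (S.ε • Φ.e i) = 0
      rw [S.B_smul_right, Φ.mem_perp_E.1 h2 i hik, mul_zero]
    · exact hv2 i (le_of_not_gt hik)
  rw [hi, zero_smul]

variable [FiniteDimensional F V]

/-- The orthogonal has codimension at most the dimension. -/
theorem finrank_perp_ge (W : Submodule F V) :
    Module.finrank F V ≤ Module.finrank F (S.perp W) + Module.finrank F W := by
  let b := Module.finBasis F W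
  let L : V →ₗ[F] (Fin (Module.finrank F W) → F) := LinearMap.pi fun i => S.Bl ((b i : W) : V)
  have hker : LinearMap.ker L ≤ S.perp W := by
    intro v hv x hx
    have h : x = ∑ i, b.repr ⟨x, hx⟩ i • ((b i : W) : V) := by
      have := congrArg W.subtype (b.sum_repr ⟨x, hx⟩)
      rw [map_sum] at this
      simpa only [map_smul, Submodule.subtype_apply] using this.symm
    rw [h, S.B_sum_right]
    refine Finset.sum_eq_zero fun i _ => ?_
    have h1 : S.B v ((b i : W) : V) = 0 := congrFun hv i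
    rw [S.B_smul_right, h1, mul_zero]
  have h1 := L.finrank_range_add_finrank_ker
  have h2 := Submodule.finrank_le (LinearMap.range L)
  rw [Module.finrank_fin_fun] at h2
  have h3 := Submodule.finrank_mono hker
  omega

/-- A singular vector orthogonal to a maximal flag lies in it. -/
theorem Chamber.mem_top (Φ₀ : Frame S n) (c : Chamber S n) {v : V} (hN : S.N v = 0)
    (hv : v ∈ S.perp (c.sub n)) : v ∈ c.sub n := by
  have h := Φ₀.finrank_le (c.ts.sup_span_singleton S hN hv)
  rw [Submodule.eq_of_le_of_finrank_le le_sup_left (h.trans_eq (c.dim n le_rfl).symm)]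
  exact Submodule.mem_sup_right (Submodule.mem_span_singleton_self v)

/-- Frames through a given flag. -/
theorem exists_frame (Φ₀ : Frame S n) (c : Chamber S n) : ∃ Φ : Frame S n, Φ.cham = c := by
  classical
  have hex : ∀ i : Fin n, ∃ x, x ∈ c.sub (i.val + 1) ∧ x ∉ c.sub i.val := fun i => by
    by_contra h
    push Not at h
    have := Submodule.finrank_mono (show c.sub (i.val + 1) ≤ c.sub i.val from h)
    rw [c.dim _ i.2, c.dim _ i.2.le] at this
    omega
  choose e he he' using hex
  have hE : ∀ k, k ≤ n → Submodule.span F (Set.range fun i : {i : Fin n // i.val < k} => e i) = c.sub k := by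
    intro k
    induction k with
    | zero =>
      intro _
      rw [c.sub_zero, Submodule.span_eq_bot]
      rintro x ⟨⟨i, hi⟩, rfl⟩
      exact absurd hi (Nat.not_lt_zero _)
    | succ k ih =>
      intro hk
      refine le_antisymm (Submodule.span_le.2 ?_) ?_
      · rintro _ ⟨⟨i, hi⟩, rfl⟩
        exact c.mono hi (he i)
      · rw [← c.succ_eq hk (he ⟨k, hk⟩) (he' ⟨k, hk⟩), ← ih (Nat.le_of_succ_le hk)]
        refine sup_le (Submodule.span_mono ?_) ((Submodule.span_singleton_le_iff_mem _ _).2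
          (Submodule.subset_span ⟨⟨⟨k, hk⟩, Nat.lt_succ_self k⟩, rfl⟩))
        rintro _ ⟨⟨i, hi⟩, rfl⟩
        exact ⟨⟨i, hi.trans (Nat.lt_succ_self k)⟩, rfl⟩
  have hspan : Submodule.span F (Set.range e) = c.sub n := by
    rw [← hE n le_rfl]
    congr 1
    ext x
    exact ⟨fun ⟨i, hi⟩ => ⟨⟨i, i.2⟩, hi⟩, fun ⟨i, hi⟩ => ⟨i, hi⟩⟩
  have hli : LinearIndependent F e := by
    rw [linearIndependent_iff_card_eq_finrank_span, Set.finrank, hspan, c.dim n le_rfl, Fintype.card_fin]
  have hts : S.TS (Submodule.span F (Set.range e)) := hspan ▸ c.ts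
  have hmem : ∀ i, e i ∈ Submodule.span F (Set.range e) := fun i => Submodule.subset_span ⟨i, rfl⟩
  have hee : ∀ i j, S.B (e i) (e j) = 0 := fun i j => (hts _ (hmem i)).2 _ (hmem j)
  choose f hf using fun j : Fin n => Φ₀.pairing_surjective e hli hts (Pi.single j S.ε)
  have hef : ∀ i j, S.B (e i) (f j) = if i = j then 1 else 0 := by
    intro i j
    have h : S.B (f j) (e i) = Pi.single (M := fun _ => F) j S.ε i := congrFun (hf j) i
    rw [S.B_symm, h, Pi.single_apply]
    split_ifs
    · exact Φ₀.eps_mul i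
    · rw [map_zero, mul_zero]
  -- make the partners singular and mutually orthogonal
  have main : ∀ k, k ≤ n → ∃ g : Fin n → V, (∀ i j, S.B (e i) (g j) = if i = j then 1 else 0) ∧
      (∀ i : Fin n, i.val < k → S.N (g i) = 0) ∧
      ∀ i j : Fin n, i.val < k → j.val < k → S.B (g i) (g j) = 0 := by
    intro k
    induction k with
    | zero => exact fun _ => ⟨f, hef, fun i h => absurd h (Nat.not_lt_zero _),
        fun i j h _ => absurd h (Nat.not_lt_zero _)⟩
    | succ k ih =>
      intro hk
      obtain ⟨g, hg, hgN, hgg⟩ := ih (Nat.le_of_succ_le hk)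
      set j₀ : Fin n := ⟨k, hk⟩
      set g₁ : V := g j₀ + ∑ l, (if l.val < k then -S.B (g j₀) (g l) else 0) • e l with hg₁
      have hfe : ∀ i j, S.B (g i) (e j) = if i = j then S.ε else 0 := fun i j => by
        rw [S.B_symm, hg]
        rcases eq_or_ne i j with rfl | h
        · simp
        · simp [h, Ne.symm h]
      have he₁ : ∀ i, S.B (e i) g₁ = if i = j₀ then 1 else 0 := fun i => by
        simp only [hg₁, S.B_add_right, S.B_sum_right, S.B_smul_right, hee, hg, mul_zero,
          Finset.sum_const_zero, add_zero]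
      have hg₁g : ∀ l : Fin n, l.val < k → S.B g₁ (g l) = 0 := fun l hl => by
        simp only [hg₁, S.B_add_left, S.B_sum_left, S.B_smul_left, hg, mul_ite, mul_one, mul_zero,
          Finset.sum_ite_eq', Finset.mem_univ, if_true, if_pos hl, add_neg_cancel]
      obtain ⟨a₀, ha₀⟩ := S.φ_sol g₁
      set g₂ : V := g₁ + (S.τ a₀ * S.ε) • e j₀ with hg₂
      have hN₂ : S.N g₂ = 0 := by
        have hb : S.B g₁ ((S.τ a₀ * S.ε) • e j₀) = a₀ := by
          rw [S.B_smul_right, S.B_symm (e j₀) g₁, he₁, if_pos rfl, map_one, mul_one, map_mul, S.τ_inv,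
            mul_assoc, mul_comm (S.τ S.ε), Φ₀.eps_mul j₀, mul_one]
        rw [hg₂, S.N_add, hb, S.N_smul, (hts _ (hmem j₀)).1, mul_zero, add_zero, ha₀]
      have hg₂g : ∀ l : Fin n, l.val < k → S.B g₂ (g l) = 0 := fun l hl => by
        have hne : ¬ j₀ = l := fun e => by rw [← e] at hl; exact lt_irrefl k hl
        rw [hg₂, S.B_add_left, hg₁g l hl, S.B_smul_left, hg, if_neg hne, mul_zero, add_zero]
      refine ⟨Function.update g j₀ g₂, fun i j => ?_, fun i hi => ?_, fun i j hi hj => ?_⟩
      · rcases eq_or_ne j j₀ with rfl | hne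
        · rw [Function.update_self, hg₂, S.B_add_right, S.B_smul_right, hee, mul_zero, add_zero, he₁]
        · rw [Function.update_of_ne hne, hg]
      · rcases eq_or_ne i j₀ with rfl | hne
        · rw [Function.update_self, hN₂]
        · rw [Function.update_of_ne hne]
          exact hgN i (lt_of_le_of_ne (Nat.lt_succ_iff.1 hi) fun e => hne (Fin.ext e))
      · have hlt : ∀ l : Fin n, l.val < k + 1 → l ≠ j₀ → l.val < k := fun l hl hne =>
          lt_of_le_of_ne (Nat.lt_succ_iff.1 hl) fun e => hne (Fin.ext e)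
        rcases eq_or_ne i j₀ with rfl | hi' <;> rcases eq_or_ne j j₀ with rfl | hj'
        · rw [Function.update_self]; exact S.N_self _ hN₂
        · rw [Function.update_self, Function.update_of_ne hj']; exact hg₂g j (hlt j hj hj')
        · rw [Function.update_self, Function.update_of_ne hi']
          exact S.B_eq_zero_symm (hg₂g i (hlt i hi hi'))
        · rw [Function.update_of_ne hi', Function.update_of_ne hj']
          exact hgg i j (hlt i hi hi') (hlt j hj hj')
  obtain ⟨g, hg, hgN, hgg⟩ := main n le_rfl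
  refine ⟨⟨e, g, fun i => (hts _ (hmem i)).1, fun i => hgN i i.2, hee, fun i j => hgg i j i.2 j.2, hg,
    fun z hz hN => ?_⟩, Chamber.ext' hE⟩
  have hzc : z ∈ Submodule.span F (Set.range e) := by
    rw [hspan]
    refine c.mem_top Φ₀ hN ?_
    rw [← hspan, S.mem_perp_span]
    rintro _ ⟨i, rfl⟩
    exact (hz i).1
  obtain ⟨a, rfl⟩ := (Submodule.mem_span_range_iff_exists_fun F).1 hzc
  refine Finset.sum_eq_zero fun i _ => ?_
  have := (hz i).2
  simp [S.B_sum_left, S.B_smul_left, hg] at this
  rw [this, zero_smul]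

/-- Opposition is symmetric. -/
theorem Opp.symm (Φ : Frame S n) {d : Chamber S n} (h : Opp Φ.cham d) {k : ℕ} (hk : k ≤ n) :
    Φ.E k ⊓ S.perp (d.sub k) = ⊥ := by
  classical
  let ψ : d.sub k →ₗ[F] (Fin k → F) :=
    (LinearMap.pi fun i : Fin k => S.Bl (Φ.e ⟨i, i.2.trans_le hk⟩)).comp (d.sub k).subtype
  have hinj : Function.Injective ψ := by
    rw [← LinearMap.ker_eq_bot, eq_bot_iff]
    intro x hx
    have : (x : V) ∈ d.sub k ⊓ S.perp (Φ.cham.sub k) :=
      ⟨x.2, Φ.mem_perp_E.2 fun i hi => congrFun hx ⟨i, hi⟩⟩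
    rw [h k hk, Submodule.mem_bot] at this
    exact Subtype.ext this
  have hsurj := (LinearMap.injective_iff_surjective_of_finrank_eq_finrank
    (by rw [d.dim k hk, Module.finrank_fin_fun])).1 hinj
  refine eq_bot_iff.2 fun v hv => ?_
  obtain ⟨hvE, hvd⟩ := hv
  obtain ⟨h1, h2⟩ := Φ.mem_E.1 hvE
  rw [Submodule.mem_bot, h1]
  refine Finset.sum_eq_zero fun i _ => ?_
  by_cases hik : i.val < k
  · obtain ⟨w, hw⟩ := hsurj (Pi.single ⟨i, hik⟩ 1)
    have h3 : S.B (w : V) v = 0 := S.B_eq_zero_symm (hvd _ w.2)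
    rw [h1, S.B_sum_right, Finset.sum_eq_single i ?_ (by simp)] at h3
    · have hwi : S.B (w : V) (Φ.e i) = 1 := by
        have := congrFun hw ⟨i, hik⟩
        simpa [ψ, S.Bl_apply] using this
      rw [S.B_smul_right, hwi, mul_one] at h3
      have := congrArg S.τ h3
      rw [S.τ_inv, map_zero] at this
      rw [this, zero_smul]
    · intro j _ hji
      rw [S.B_smul_right]
      by_cases hjk : j.val < k
      · have h4 : S.B (w : V) (Φ.e j) = 0 := by
          have := congrFun hw ⟨j, hjk⟩
          rw [Pi.single_apply, if_neg (fun e => hji (Fin.ext (congrArg (fun t : Fin k => t.val) e)))] at this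
          exact this
        rw [h4, mul_zero]
      · rw [h2 j (le_of_not_gt hjk), map_zero, zero_mul]
  · rw [h2 i (le_of_not_gt hik), zero_smul]

/-- A frame through two opposite flags, congruent to a given one. -/
theorem exists_frame_pair (Φ : Frame S n) {d : Chamber S n} (hd : Opp Φ.cham d) :
    ∃ Φ' : Frame S n, (∀ j : Fin n, Φ'.e j - Φ.e j ∈ Φ.E j.val) ∧ Φ'.cham = Φ.cham ∧ Φ'.ocham = d := by
  classical
  have hinf : ∀ (A B : Submodule F V) (j : ℕ), Module.finrank F A = j + 1 →
      Module.finrank F V ≤ Module.finrank F B + j → ∃ v ∈ A ⊓ B, v ≠ 0 := by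
    intro A B j hA hB
    refine Submodule.exists_mem_ne_zero_of_ne_bot fun e => ?_
    have h1 := Submodule.finrank_sup_add_finrank_inf_eq A B
    rw [e, finrank_bot] at h1
    have h2 := Submodule.finrank_le (A ⊔ B)
    omega
  have hex : ∀ j : Fin n, ∃ x, x ∈ Φ.E (j.val + 1) ∧ x ∈ S.perp (d.sub j.val) ∧ S.B x (Φ.f j) = 1 := by
    intro j
    obtain ⟨v, ⟨hv1, hv2⟩, hv0⟩ := hinf (Φ.E (j.val + 1)) (S.perp (d.sub j.val)) j.val
      (Φ.finrank_E j.2) (by have := finrank_perp_ge (S := S) (d.sub j.val); rw [d.dim _ j.2.le] at this; omega)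
    have hne : S.B v (Φ.f j) ≠ 0 := by
      intro h0
      refine hv0 ?_
      have hmem : v ∈ Φ.E j.val := by
        obtain ⟨h1, h2⟩ := Φ.mem_E.1 hv1
        refine Φ.mem_E.2 ⟨h1, fun i hi => ?_⟩
        rcases eq_or_ne i j with rfl | hij
        · exact h0
        · exact h2 i (lt_of_le_of_ne hi fun e => hij (Fin.ext e.symm))
      have : v ∈ Φ.E j.val ⊓ S.perp (d.sub j.val) := ⟨hmem, hv2⟩
      rwa [hd.symm Φ j.2.le, Submodule.mem_bot] at this
    exact ⟨(S.B v (Φ.f j))⁻¹ • v, Submodule.smul_mem _ _ hv1, Submodule.smul_mem _ _ hv2,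
      by rw [S.B_smul_left, inv_mul_cancel₀ hne]⟩
  choose e he he' he1 using hex
  have hdiff : ∀ j : Fin n, e j - Φ.e j ∈ Φ.E j.val := by
    intro j
    obtain ⟨h1, h2⟩ := Φ.mem_E.1 (Submodule.sub_mem _ (he j) (Φ.e_mem_E (Nat.lt_succ_self j.val)))
    refine Φ.mem_E.2 ⟨h1, fun i hi => ?_⟩
    rcases eq_or_ne i j with rfl | hij
    · rw [S.B_sub_left, he1, Φ.ef, if_pos rfl, sub_self]
    · exact h2 i (lt_of_le_of_ne hi fun e => hij (Fin.ext e.symm))
  have hfx : ∀ j : Fin n, ∃ y, y ∈ d.sub (j.val + 1) ∧ y ∈ S.perp (Φ.E j.val) ∧ S.B (e j) y = 1 := by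
    intro j
    obtain ⟨w, ⟨hw1, hw2⟩, hw0⟩ := hinf (d.sub (j.val + 1)) (S.perp (Φ.E j.val)) j.val (d.dim _ j.2)
      (by have := finrank_perp_ge (S := S) (Φ.E j.val); rw [Φ.finrank_E j.2.le] at this; omega)
    have hne : S.B (e j) w ≠ 0 := by
      intro h0
      refine hw0 ?_
      have h1 : S.B w (Φ.e j) = 0 := by
        have h2 : S.B w (e j - (e j - Φ.e j)) = 0 := by
          rw [S.B_sub_right, S.B_eq_zero_symm h0, hw2 _ (hdiff j), sub_zero]
        rwa [sub_sub_cancel] at h2
      have : w ∈ d.sub (j.val + 1) ⊓ S.perp (Φ.cham.sub (j.val + 1)) := by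
        refine ⟨hw1, Φ.mem_perp_E.2 fun i hi => ?_⟩
        rcases eq_or_ne i j with rfl | hij
        · exact h1
        · exact Φ.mem_perp_E.1 hw2 i (lt_of_le_of_ne (Nat.lt_succ_iff.1 hi) fun e => hij (Fin.ext e))
      rwa [hd (j.val + 1) j.2, Submodule.mem_bot] at this
    refine ⟨(S.τ (S.B (e j) w))⁻¹ • w, Submodule.smul_mem _ _ hw1, Submodule.smul_mem _ _ hw2, ?_⟩
    rw [S.B_smul_right, map_inv₀, S.τ_inv, inv_mul_cancel₀ hne]
  choose g hg hg' hg1 using hfx
  have heE : ∀ i : Fin n, e i ∈ Φ.E n := fun i => Φ.E_mono i.2 (he i)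
  have hgd : ∀ i : Fin n, g i ∈ d.sub n := fun i => d.mono i.2 (hg i)
  have hef : ∀ i j, S.B (e i) (g j) = if i = j then 1 else 0 := by
    intro i j
    rcases lt_trichotomy i.val j.val with h | h | h
    · rw [if_neg (fun e => by rw [e] at h; exact lt_irrefl _ h)]
      exact S.B_eq_zero_symm (hg' j _ (Φ.E_mono h (he i)))
    · rw [if_pos (Fin.ext h), Fin.ext h]; exact hg1 j
    · rw [if_neg (fun e => by rw [e] at h; exact lt_irrefl _ h)]
      exact he' i _ (d.mono h (hg j))
  have hspan : ∀ k, k ≤ n → ∀ i : Fin n, i.val < k → e i ∈ Φ.E k :=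
    fun k _ i hi => Φ.E_mono hi (he i)
  let Φ' : Frame S n :=
    { e := e, f := g
      Ne := fun i => (Φ.ts_E n _ (heE i)).1
      Nf := fun i => (d.ts _ (hgd i)).1
      ee := fun i j => (Φ.ts_E n _ (heE i)).2 _ (heE j)
      ff := fun i j => (d.ts _ (hgd i)).2 _ (hgd j)
      ef := hef
      aniso := fun z hz hN => by
        have hsp : Submodule.span F (Set.range e) = Φ.E n := by
          refine Submodule.eq_of_le_of_finrank_le (Submodule.span_le.2 (by
            rintro _ ⟨i, rfl⟩; exact heE i)) ?_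
          have hli : LinearIndependent F e := by
            rw [Fintype.linearIndependent_iff]
            intro a ha j
            have := congrArg (fun x => S.B x (g j)) ha
            simpa [S.B_sum_left, S.B_smul_left, S.B_zero_left, hef] using this
          rw [finrank_span_eq_card hli, Fintype.card_fin, Φ.finrank_E le_rfl]
        have hzE : z ∈ Submodule.span F (Set.range e) := by
          rw [hsp]
          refine Φ.mem_E_of_singular ?_ hN
          rw [← hsp, S.mem_perp_span]
          rintro _ ⟨i, rfl⟩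
          exact (hz i).1
        obtain ⟨a, rfl⟩ := (Submodule.mem_span_range_iff_exists_fun F).1 hzE
        refine Finset.sum_eq_zero fun i _ => ?_
        have := (hz i).2
        simp [S.B_sum_left, S.B_smul_left, hef] at this
        rw [this, zero_smul] }
  refine ⟨Φ', hdiff, Chamber.ext' fun k hk => ?_, Chamber.ext' fun k hk => ?_⟩
  · refine Submodule.eq_of_le_of_finrank_le (Submodule.span_le.2 ?_) (le_of_eq ?_)
    · rintro _ ⟨⟨i, hi⟩, rfl⟩; exact hspan k hk i hi
    · rw [Φ.cham.dim k hk, Φ'.cham.dim k hk]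
  · refine Submodule.eq_of_le_of_finrank_le (Submodule.span_le.2 ?_) (le_of_eq ?_)
    · rintro _ ⟨⟨i, hi⟩, rfl⟩; exact d.mono hi (hg i)
    · rw [d.dim k hk, Φ'.ocham.dim k hk]

end Cfsg.Agent.Lib.SteinbergFlag
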