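import Cfsg.Agent.Lib.SteinbergFlag.Chamber

/-!
# The Steinberg module: functions on maximal flags with all panel sums zero

Restriction to the flags opposite a given one is bijective.
-/

set_option autoImplicit false
set_option linter.unusedSectionVars false

namespace Cfsg.Agent.Lib.SteinbergFlag

universe u v

variable {F : Type u} {V : Type v} [Field F] [AddCommGroup V] [Module F V] [Finite V]
  [FiniteDimensional F V]
variable {S : Space F V} {n : ℕ}

/-- Flags agreeing with `c` outside step `i + 1`. -/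
noncomputable def panel (c : Chamber S n) (i : ℕ) : Finset (Chamber S n) :=
  (Set.toFinite {c' : Chamber S n | ∀ k, k ≤ n → k ≠ i + 1 → c'.sub k = c.sub k}).toFinset

theorem mem_panel {c c' : Chamber S n} {i : ℕ} :
    c' ∈ panel c i ↔ ∀ k, k ≤ n → k ≠ i + 1 → c'.sub k = c.sub k := by
  rw [panel, Set.Finite.mem_toFinset]; rfl

theorem self_mem_panel (c : Chamber S n) (i : ℕ) : c ∈ panel c i := mem_panel.2 fun _ _ _ => rfl

variable (S n) in
/-- The functions with all panel sums zero. -/
noncomputable def steinberg : Submodule ℂ (Chamber S n → ℂ) where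
  carrier := {f | ∀ c i, i < n → ∑ c' ∈ panel c i, f c' = 0}
  add_mem' {f g} hf hg c i hi := by
    simp only [Pi.add_apply, Finset.sum_add_distrib, hf c i hi, hg c i hi, add_zero]
  zero_mem' c i _ := by simp
  smul_mem' a f hf c i hi := by
    simp only [Pi.smul_apply, ← Finset.smul_sum, hf c i hi, smul_zero]

theorem mem_steinberg {f : Chamber S n → ℂ} :
    f ∈ steinberg S n ↔ ∀ c i, i < n → ∑ c' ∈ panel c i, f c' = 0 := Iff.rfl

/-! ### Descent towards the opposite flags -/

/-- The members of the chain attached to a flag. -/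
def chain (c : Chamber S n) : Bool → ℕ → Submodule F V
  | true, j => S.perp (c.sub j)
  | false, j => c.sub j

theorem chain_total (c : Chamber S n) (b b' : Bool) (j j' : ℕ) :
    chain c b j ≤ chain c b' j' ∨ chain c b' j' ≤ chain c b j := by
  have hcross : ∀ i i', c.sub i ≤ S.perp (c.sub i') := fun i i' x hx y hy =>
    (c.ts _ (c.le_top i hx)).2 y (c.le_top i' hy)
  cases b <;> cases b'
  · rcases le_total j j' with h | h
    · exact Or.inl (c.mono h)
    · exact Or.inr (c.mono h)
  · exact Or.inl (hcross j j')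
  · exact Or.inr (hcross j' j)
  · rcases le_total j j' with h | h
    · exact Or.inr (S.perp_anti (c.mono h))
    · exact Or.inl (S.perp_anti (c.mono h))

/-- How close `d` is to `c`. -/
noncomputable def closeness (c d : Chamber S n) : ℕ :=
  ∑ k ∈ Finset.range (n + 1), ∑ b : Bool, ∑ j ∈ Finset.range (n + 1),
    Module.finrank F (d.sub k ⊓ chain c b j : Submodule F V)

/-- A special member of a panel is strictly closer. -/
theorem closeness_lt {c d d' : Chamber S n} {i : ℕ} (hi : i < n) {b : Bool} {j : ℕ} (hj : j ≤ n)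
    (hgain : ¬ d.sub (i + 1) ⊓ chain c b j ≤ d.sub i)
    (huniq : ∀ e ∈ panel d i, ¬ e.sub (i + 1) ⊓ chain c b j ≤ e.sub i → e = d)
    (hd' : d' ∈ panel d i) (hne : d' ≠ d) : closeness c d' < closeness c d := by
  classical
  have hp := mem_panel.1 hd'
  have hU : d'.sub i = d.sub i := hp i hi.le (by omega)
  have hno : d'.sub (i + 1) ⊓ chain c b j ≤ d'.sub i := by
    by_contra h; exact hne (huniq d' hd' h)
  have hup : ∀ (e : Chamber S n) (Y : Submodule F V),
      Module.finrank F (e.sub (i + 1) ⊓ Y : Submodule F V) ≤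
        Module.finrank F (e.sub i ⊓ Y : Submodule F V) + 1 := by
    intro e Y
    have h1 := Submodule.finrank_sup_add_finrank_inf_eq (e.sub (i + 1) ⊓ Y) (e.sub i)
    have h2 : e.sub (i + 1) ⊓ Y ⊓ e.sub i = e.sub i ⊓ Y :=
      le_antisymm (le_inf inf_le_right (inf_le_left.trans inf_le_right))
        (le_inf (le_inf (inf_le_left.trans (e.mono i.le_succ)) inf_le_right) inf_le_left)
    have h3 : Module.finrank F (e.sub (i + 1) ⊓ Y ⊔ e.sub i : Submodule F V) ≤ i + 1 := by
      exact (Submodule.finrank_mono (sup_le inf_le_left (e.mono i.le_succ))).trans_eq (e.dim (i + 1) hi)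
    rw [h2, e.dim i hi.le] at h1
    omega
  have hlow : ∀ (e : Chamber S n) (Y : Submodule F V), ¬ e.sub (i + 1) ⊓ Y ≤ e.sub i →
      Module.finrank F (e.sub i ⊓ Y : Submodule F V) <
        Module.finrank F (e.sub (i + 1) ⊓ Y : Submodule F V) := by
    intro e Y hY
    refine Submodule.finrank_lt_finrank_of_lt (lt_of_le_of_ne
      (inf_le_inf_right _ (e.mono i.le_succ)) fun h => hY ?_)
    rw [← h]; exact inf_le_left
  have hstrict : Module.finrank F (d'.sub (i + 1) ⊓ chain c b j : Submodule F V) <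
      Module.finrank F (d.sub (i + 1) ⊓ chain c b j : Submodule F V) := by
    refine lt_of_le_of_lt ?_ (hlow d _ hgain)
    exact Submodule.finrank_mono (le_inf (hno.trans hU.le) inf_le_right)
  have hle : ∀ b' j', Module.finrank F (d'.sub (i + 1) ⊓ chain c b' j' : Submodule F V) ≤
      Module.finrank F (d.sub (i + 1) ⊓ chain c b' j' : Submodule F V) := by
    intro b' j'
    by_cases hY : d'.sub (i + 1) ⊓ chain c b' j' ≤ d'.sub i
    · exact Submodule.finrank_mono
        (le_inf ((hY.trans hU.le).trans (d.mono i.le_succ)) inf_le_right)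
    · have hXY : chain c b j ≤ chain c b' j' := by
        rcases chain_total c b b' j j' with h | h
        · exact h
        · exact absurd ((inf_le_inf_left _ h).trans hno) hY
      have hgY : ¬ d.sub (i + 1) ⊓ chain c b' j' ≤ d.sub i := fun h =>
        hgain ((inf_le_inf_left _ hXY).trans h)
      have h1 := hup d' (chain c b' j')
      rw [hU] at h1
      have h2 := hlow d _ hgY
      omega
  unfold closeness
  refine Finset.sum_lt_sum (fun k hk => ?_) ⟨i + 1, Finset.mem_range.2 (by omega), ?_⟩
  · refine Finset.sum_le_sum fun b' _ => Finset.sum_le_sum fun j' _ => ?_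
    by_cases hki : k = i + 1
    · subst hki; exact hle b' j'
    · rw [hp k (Nat.lt_succ_iff.1 (Finset.mem_range.1 hk)) hki]
  · refine Finset.sum_lt_sum (fun b' _ => Finset.sum_le_sum fun j' _ => hle b' j') ⟨b, Finset.mem_univ _, ?_⟩
    exact Finset.sum_lt_sum (fun j' _ => hle b j') ⟨j, Finset.mem_range.2 (by omega), hstrict⟩

/-- A flag not opposite `c` is the special member of some panel. -/
theorem exists_descent (Φ : Frame S n) {d : Chamber S n} (h : ¬ Opp Φ.cham d) :
    ∃ i b j, i < n ∧ j ≤ n ∧ ¬ d.sub (i + 1) ⊓ chain Φ.cham b j ≤ d.sub i ∧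
      ∀ e ∈ panel d i, ¬ e.sub (i + 1) ⊓ chain Φ.cham b j ≤ e.sub i → e = d := by
  classical
  by_contra hcon
  push Not at hcon
  set c := Φ.cham with hc
  -- gains propagate upwards
  have hA : ∀ i, i + 1 < n → ∀ b j, j ≤ n → ¬ d.sub (i + 1) ⊓ chain c b j ≤ d.sub i →
      ¬ d.sub (i + 1 + 1) ⊓ chain c b j ≤ d.sub (i + 1) := by
    intro i hi b j hj hg hng
    obtain ⟨e, he, heg, hed⟩ := hcon i b j (by omega) hj hg
    refine hed ?_
    have hp := mem_panel.1 he
    obtain ⟨y, hy, hy'⟩ := SetLike.not_le_iff_exists.1 heg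
    have h2 : e.sub (i + 1 + 1) = d.sub (i + 1 + 1) := hp _ hi (by omega)
    have h0 : e.sub i = d.sub i := hp _ (by omega) (by omega)
    have hy2 : y ∈ d.sub (i + 1) := hng ⟨h2 ▸ e.mono (Nat.le_succ _) hy.1, hy.2⟩
    refine Chamber.ext' fun k hk => ?_
    by_cases hki : k = i + 1
    · subst hki
      rw [← e.succ_eq (by omega) hy.1 hy', ← d.succ_eq (by omega) hy2 (h0 ▸ hy'), h0]
    · exact hp k hk hki
  have hprop : ∀ b j, j ≤ n → ∀ l i, i ≤ l → l < n → ¬ d.sub (i + 1) ⊓ chain c b j ≤ d.sub i →
      ¬ d.sub (l + 1) ⊓ chain c b j ≤ d.sub l := by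
    intro b j hj l
    induction l with
    | zero => intro i hi _ hg; obtain rfl : i = 0 := (Nat.le_zero.1 hi); exact hg
    | succ l ih =>
      intro i hi hl hg
      rcases eq_or_lt_of_le hi with rfl | hlt
      · exact hg
      · exact hA l hl b j hj (ih i (Nat.lt_succ_iff.1 hlt) (by omega) hg)
  have hbot : ∀ (X : Submodule F V) k, (∀ i, i < k → d.sub (i + 1) ⊓ X ≤ d.sub i) →
      d.sub k ⊓ X = ⊥ := by
    intro X k
    induction k with
    | zero => intro _; rw [d.sub_zero, bot_inf_eq]
    | succ k ih =>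
      intro hk
      rw [eq_bot_iff, ← ih fun i hi => hk i (by omega)]
      exact le_inf (hk k (Nat.lt_succ_self k)) inf_le_right
  -- the last step
  have hB : ∀ i, i < n → d.sub (i + 1) ⊓ c.sub n ≤ d.sub i := by
    intro i hi
    by_contra hg
    have hlast : ¬ d.sub (n - 1 + 1) ⊓ chain c false n ≤ d.sub (n - 1) :=
      hprop false n le_rfl (n - 1) i (by omega) (by omega) hg
    obtain ⟨e, he, heg, hed⟩ := hcon (n - 1) false n (by omega) le_rfl hlast
    have hn : n - 1 + 1 = n := by omega
    have hp := mem_panel.1 he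
    have h0 : e.sub (n - 1) = d.sub (n - 1) := hp _ (by omega) (by omega)
    obtain ⟨x, hx, hx'⟩ := SetLike.not_le_iff_exists.1 hlast
    obtain ⟨y, hy, hy'⟩ := SetLike.not_le_iff_exists.1 heg
    refine hed ?_
    rw [hn] at hx hy
    have hyd : y ∈ d.sub n := by
      refine d.mem_top Φ (c.ts y hy.2).1 ?_
      intro w hw
      have hd1 := d.succ_eq (k := n - 1) (by omega) (x := x) (by rw [hn]; exact hx.1) hx'
      rw [hn] at hd1
      rw [← hd1] at hw
      obtain ⟨u, hu, v', hv', rfl⟩ := Submodule.mem_sup.1 hw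
      obtain ⟨r, rfl⟩ := Submodule.mem_span_singleton.1 hv'
      rw [S.B_add_right, S.B_smul_right, (c.ts y hy.2).2 x hx.2, mul_zero, add_zero]
      exact (e.ts y hy.1).2 u (e.mono (Nat.sub_le n 1) (h0 ▸ hu))
    refine Chamber.ext' fun k hk => ?_
    by_cases hkn : k = n - 1 + 1
    · subst hkn
      rw [← e.succ_eq (x := y) (by omega) (by rw [hn]; exact hy.1) hy',
        ← d.succ_eq (x := y) (by omega) (by rw [hn]; exact hyd) (h0 ▸ hy'), h0]
    · exact hp k hk hkn
  have hdn : d.sub n ⊓ c.sub n = ⊥ := hbot _ n hB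
  have hperp : d.sub n ⊓ S.perp (c.sub n) = ⊥ := by
    refine eq_bot_iff.2 fun v hv => ?_
    rw [← hdn]
    exact ⟨hv.1, Φ.mem_E_of_singular hv.2 (d.ts v hv.1).1⟩
  refine h fun k hk => ?_
  by_contra hne
  obtain ⟨i, hik, hgain⟩ : ∃ i, i < k ∧ ¬ d.sub (i + 1) ⊓ chain c true k ≤ d.sub i := by
    by_contra hh
    push Not at hh
    exact hne (hbot _ k hh)
  -- lower bound
  have hge : ∀ l, i + l ≤ n → l ≤ Module.finrank F (d.sub (i + l) ⊓ chain c true k : Submodule F V) := by
    intro l
    induction l with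
    | zero => intro _; exact Nat.zero_le _
    | succ l ih =>
      intro hl
      have hg := hprop true k hk (i + l) i (by omega) (by omega) hgain
      have hlt : Module.finrank F (d.sub (i + l) ⊓ chain c true k : Submodule F V) <
          Module.finrank F (d.sub (i + l + 1) ⊓ chain c true k : Submodule F V) := by
        refine Submodule.finrank_lt_finrank_of_lt (lt_of_le_of_ne
          (inf_le_inf_right _ (d.mono (Nat.le_succ _))) fun h => hg ?_)
        rw [← h]; exact inf_le_left
      have := ih (by omega)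
      rw [← add_assoc]
      omega
  have h1 := hge (n - i) (by omega)
  rw [show i + (n - i) = n by omega] at h1
  -- upper bound
  let ψ : ↥(d.sub n ⊓ chain c true k) →ₗ[F] (Fin (n - k) → F) :=
    (LinearMap.pi fun r : Fin (n - k) => S.Bl (Φ.e ⟨k + r, by omega⟩)).comp (Submodule.subtype _)
  have hinj : Function.Injective ψ := by
    rw [← LinearMap.ker_eq_bot, eq_bot_iff]
    intro x hx
    have hx' : (x : V) ∈ d.sub n ⊓ S.perp (c.sub n) := by
      refine ⟨x.2.1, Φ.mem_perp_E.2 fun r _ => ?_⟩
      by_cases hr : r.val < k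
      · exact Φ.mem_perp_E.1 x.2.2 r hr
      · have := congrFun hx ⟨r.val - k, by omega⟩
        simpa [ψ, S.Bl_apply, Nat.add_sub_cancel' (le_of_not_gt hr)] using this
    rw [hperp, Submodule.mem_bot] at hx'
    exact Subtype.ext hx'
  have h2 := LinearMap.finrank_le_finrank_of_injective hinj
  rw [Module.finrank_fin_fun] at h2
  omega

/-- A Steinberg function vanishing on the opposite flags vanishes. -/
theorem eq_zero_of_opp (Φ : Frame S n) {f : Chamber S n → ℂ} (hf : f ∈ steinberg S n)
    (h0 : ∀ d, Opp Φ.cham d → f d = 0) : f = 0 := by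
  classical
  funext d
  induction hm : closeness Φ.cham d using Nat.strong_induction_on generalizing d with
  | _ m ih =>
    by_cases hd : Opp Φ.cham d
    · exact h0 d hd
    obtain ⟨i, b, j, hi, hj, hg, huniq⟩ := exists_descent Φ hd
    have hs := hf d i hi
    rw [← Finset.add_sum_erase _ _ (self_mem_panel d i), Finset.sum_eq_zero] at hs
    · simpa using hs
    · intro e he
      obtain ⟨hne, hmem⟩ := Finset.mem_erase.1 he
      exact ih _ (hm ▸ closeness_lt hi hj hg huniq hmem hne) e rfl

/-! ### The apartment functions -/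

variable (Φ : Frame S n)

/-- The vectors of a signed permutation of the frame. -/
def apVec (w : Equiv.Perm (Fin n) × (Fin n → Bool)) (i : Fin n) : V :=
  if w.2 i then Φ.f (w.1 i) else Φ.e (w.1 i)

theorem apVec_pair (w : Equiv.Perm (Fin n) × (Fin n → Bool)) (i j : Fin n) :
    S.B (apVec Φ w i) (apVec Φ w j) = 0 := by
  rcases eq_or_ne i j with rfl | h
  · refine S.N_self _ ?_
    unfold apVec
    split_ifs <;> simp [Φ.Ne, Φ.Nf]
  · have hne : w.1 i ≠ w.1 j := fun e => h (w.1.injective e)
    unfold apVec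
    split_ifs <;> simp [Φ.ee, Φ.ff, Φ.ef, Φ.fe, hne]

theorem apVec_li (w : Equiv.Perm (Fin n) × (Fin n → Bool)) : LinearIndependent F (apVec Φ w) := by
  rw [Fintype.linearIndependent_iff]
  intro a ha j
  by_cases hj : w.2 j = true
  · have := congrArg (fun x => S.B x (Φ.e (w.1 j))) ha
    simp only [S.B_sum_left, S.B_smul_left, S.B_zero_left] at this
    rw [Finset.sum_eq_single j ?_ (by simp)] at this
    · simpa [apVec, hj, Φ.fe, Φ.eps_ne_zero j] using this
    · intro l _ hl
      have hne : w.1 l ≠ w.1 j := fun e => hl (w.1.injective e)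
      unfold apVec
      split_ifs <;> simp [Φ.fe, Φ.ee, hne]
  · have := congrArg (fun x => S.B x (Φ.f (w.1 j))) ha
    simp only [S.B_sum_left, S.B_smul_left, S.B_zero_left] at this
    rw [Finset.sum_eq_single j ?_ (by simp)] at this
    · simpa [apVec, hj, Φ.ef] using this
    · intro l _ hl
      have hne : w.1 l ≠ w.1 j := fun e => hl (w.1.injective e)
      unfold apVec
      split_ifs <;> simp [Φ.ef, Φ.ff, hne]

/-- The flag of a signed permutation. -/
def apFlag (w : Equiv.Perm (Fin n) × (Fin n → Bool)) : Chamber S n where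
  sub k := Submodule.span F (Set.range fun i : {i : Fin n // i.val < k} => apVec Φ w i)
  dim k hk := by
    have hli : LinearIndependent F (fun i : {i : Fin n // i.val < k} => apVec Φ w i) :=
      (apVec_li Φ w).comp _ Subtype.coe_injective
    rw [finrank_span_eq_card hli]
    rw [Fintype.card_congr
      (⟨fun i => (⟨i.1.val, i.2⟩ : Fin k), fun i => ⟨⟨i.val, i.2.trans_le hk⟩, i.2⟩,
        fun _ => rfl, fun _ => rfl⟩ : {i : Fin n // i.val < k} ≃ Fin k), Fintype.card_fin]
  mono k l hkl := Submodule.span_mono (by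
    rintro _ ⟨⟨i, hi⟩, rfl⟩
    exact ⟨⟨i, hi.trans_le hkl⟩, rfl⟩)
  top k hk := by
    congr 1
    ext x
    exact ⟨fun ⟨i, e⟩ => ⟨⟨i.1, i.1.2⟩, e⟩, fun ⟨i, e⟩ => ⟨⟨i.1, i.1.2.trans_le hk⟩, e⟩⟩
  ts := S.ts_span _ (fun i => by unfold apVec; split_ifs <;> simp [Φ.Ne, Φ.Nf])
    (fun i j => apVec_pair Φ w i j)

theorem mem_apFlag (w : Equiv.Perm (Fin n) × (Fin n → Bool)) {i : Fin n} {k : ℕ} (h : i.val < k) :
    apVec Φ w i ∈ (apFlag Φ w).sub k :=
  Submodule.subset_span ⟨⟨i, h⟩, rfl⟩

/-- The sign of a signed permutation. -/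
def apSign (w : Equiv.Perm (Fin n) × (Fin n → Bool)) : ℂ :=
  ((Equiv.Perm.sign w.1 : ℤ) : ℂ) * ∏ i, if w.2 i then (-1 : ℂ) else 1

open Classical in
/-- The alternating sum over an apartment. -/
noncomputable def theta (c : Chamber S n) : ℂ :=
  ∑ w : Equiv.Perm (Fin n) × (Fin n → Bool), if apFlag Φ w = c then apSign w else 0

/-- The simple reflections on signed permutations. -/
def flipW (i : Fin n) (w : Equiv.Perm (Fin n) × (Fin n → Bool)) : Equiv.Perm (Fin n) × (Fin n → Bool) :=
  if h : i.val + 1 < n then (w.1 * Equiv.swap i ⟨i.val + 1, h⟩, w.2 ∘ Equiv.swap i ⟨i.val + 1, h⟩)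
  else (w.1, Function.update w.2 i (!(w.2 i)))

theorem flipW_flipW (i : Fin n) (w : Equiv.Perm (Fin n) × (Fin n → Bool)) : flipW i (flipW i w) = w := by
  unfold flipW
  split_ifs with h
  · refine Prod.ext (by simp [mul_assoc]) (funext fun x => by simp)
  · refine Prod.ext rfl ?_
    simp

theorem apSign_flipW (i : Fin n) (w : Equiv.Perm (Fin n) × (Fin n → Bool)) :
    apSign (flipW i w) = -apSign w := by
  unfold flipW apSign
  split_ifs with h
  · have hne : i ≠ ⟨i.val + 1, h⟩ := fun e => by simpa using congrArg Fin.val e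
    simp only [Function.comp_apply]
    rw [Equiv.Perm.sign_mul, Equiv.Perm.sign_swap hne,
      Equiv.prod_comp (Equiv.swap i ⟨i.val + 1, h⟩) fun x => if w.2 x then (-1 : ℂ) else 1]
    simp
  · have hu : ∏ x, (if Function.update w.2 i (!(w.2 i)) x then (-1 : ℂ) else 1) =
        ∏ x, (if w.2 x then (-1 : ℂ) else 1) * (if x = i then (-1 : ℂ) else 1) := by
      refine Finset.prod_congr rfl fun x _ => ?_
      rcases eq_or_ne x i with rfl | hxi
      · simp only [Function.update_self, if_true]
        cases w.2 x <;> simp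
      · simp [Function.update_of_ne hxi, hxi]
    rw [hu, Finset.prod_mul_distrib, Finset.prod_ite_eq']
    simp

theorem apSign_ne_zero (w : Equiv.Perm (Fin n) × (Fin n → Bool)) : apSign w ≠ 0 := by
  unfold apSign
  refine mul_ne_zero (Int.cast_ne_zero.2 (Units.ne_zero _)) (Finset.prod_ne_zero_iff.2 fun i _ => ?_)
  split_ifs <;> norm_num

theorem apFlag_flipW (i : Fin n) (w : Equiv.Perm (Fin n) × (Fin n → Bool)) {k : ℕ} (hk : k ≤ n)
    (hki : k ≠ i.val + 1) : (apFlag Φ (flipW i w)).sub k = (apFlag Φ w).sub k := by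
  refine Submodule.eq_of_le_of_finrank_le (Submodule.span_le.2 ?_)
    (le_of_eq (by rw [(apFlag Φ w).dim k hk, (apFlag Φ (flipW i w)).dim k hk]))
  rintro _ ⟨⟨x, hx⟩, rfl⟩
  by_cases h : i.val + 1 < n
  · have he : apVec Φ (flipW i w) x = apVec Φ w (Equiv.swap i ⟨i.val + 1, h⟩ x) := by
      simp [flipW, h, apVec]
    show apVec Φ (flipW i w) x ∈ _
    rw [he]
    refine mem_apFlag Φ w ?_
    rcases eq_or_ne x i with rfl | h1
    · rw [Equiv.swap_apply_left]; simp only; omega
    rcases eq_or_ne x ⟨i.val + 1, h⟩ with rfl | h2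
    · rw [Equiv.swap_apply_right]
      simp only at hx
      omega
    · rwa [Equiv.swap_apply_of_ne_of_ne h1 h2]
  · have hxi : x ≠ i := fun e => by subst e; omega
    have he : apVec Φ (flipW i w) x = apVec Φ w x := by
      simp [flipW, h, apVec, Function.update_of_ne hxi]
    show apVec Φ (flipW i w) x ∈ _
    rw [he]
    exact mem_apFlag Φ w hx

theorem theta_mem : theta Φ ∈ steinberg S n := by
  classical
  intro c i hi
  unfold theta
  rw [Finset.sum_comm]
  refine Finset.sum_ninvolution (flipW ⟨i, hi⟩) ?_ ?_ (fun _ => Finset.mem_univ _) (flipW_flipW _)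
  · intro w
    simp only [Finset.sum_ite_eq, apSign_flipW]
    have hiff : apFlag Φ (flipW ⟨i, hi⟩ w) ∈ panel c i ↔ apFlag Φ w ∈ panel c i := by
      simp only [mem_panel]
      exact forall_congr' fun k => forall_congr' fun hk => forall_congr' fun hki =>
        by rw [apFlag_flipW Φ ⟨i, hi⟩ w hk hki]
    by_cases hm : apFlag Φ w ∈ panel c i
    · rw [if_pos hm, if_pos (hiff.2 hm), add_neg_cancel]
    · rw [if_neg hm, if_neg (fun h => hm (hiff.1 h)), add_zero]
  · intro w hne he
    refine hne ?_
    have h := apSign_flipW ⟨i, hi⟩ w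
    rw [he] at h
    exact absurd (CharZero.eq_neg_self_iff.1 h) (apSign_ne_zero w)

/-- The only flag of the apartment opposite the base flag. -/
theorem apFlag_opp {w : Equiv.Perm (Fin n) × (Fin n → Bool)} (h : Opp Φ.cham (apFlag Φ w)) :
    w = (1, fun _ => true) := by
  have hj : ∀ j : Fin n, w.1 j = j ∧ w.2 j = true := by
    intro j
    induction hm : j.val using Nat.strong_induction_on generalizing j with
    | _ m ih =>
      subst hm
      have hbot := h (j.val + 1) j.2
      have hlo : ¬ (w.1 j).val < j.val := by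
        intro hlt
        have := (ih _ hlt (w.1 j) rfl).1
        rw [w.1.injective this] at hlt
        exact lt_irrefl _ hlt
      by_contra hcon
      have hperp : apVec Φ w j ∈ S.perp (Φ.cham.sub (j.val + 1)) := by
        refine Φ.mem_perp_E.2 fun l hl => ?_
        unfold apVec
        split_ifs with hs
        · rw [Φ.fe, if_neg]
          intro e
          refine hcon ⟨Fin.ext ?_, hs⟩
          have := congrArg Fin.val e
          omega
        · exact Φ.ee _ _
      have : apVec Φ w j ∈ (apFlag Φ w).sub (j.val + 1) ⊓ S.perp (Φ.cham.sub (j.val + 1)) :=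
        ⟨mem_apFlag Φ w (Nat.lt_succ_self _), hperp⟩
      rw [hbot, Submodule.mem_bot] at this
      exact (apVec_li Φ w).ne_zero j this
  exact Prod.ext (Equiv.ext fun j => (hj j).1) (funext fun j => (hj j).2)

theorem apFlag_top : apFlag Φ ((1, fun _ => true) : Equiv.Perm (Fin n) × (Fin n → Bool)) = Φ.ocham := by
  refine Chamber.ext' fun k _ => ?_
  show Submodule.span F _ = Submodule.span F _
  rfl

theorem theta_ocham : theta Φ Φ.ocham ≠ 0 := by
  classical
  unfold theta
  rw [Fintype.sum_eq_single ((1, fun _ => true) : Equiv.Perm (Fin n) × (Fin n → Bool)),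
    if_pos (apFlag_top Φ)]
  · exact apSign_ne_zero _
  · intro w hw
    rw [if_neg]
    intro e
    exact hw (apFlag_opp Φ (e ▸ Φ.opp))

theorem theta_eq_zero {d : Chamber S n} (hd : Opp Φ.cham d) (hne : d ≠ Φ.ocham) : theta Φ d = 0 := by
  classical
  unfold theta
  refine Finset.sum_eq_zero fun w _ => if_neg fun e => hne ?_
  have := apFlag_opp Φ (e ▸ hd)
  subst this
  rw [← e, apFlag_top]

/-- Restriction of Steinberg functions to the flags opposite a given one. -/
noncomputable def restrOpp (Φ : Frame S n) :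
    steinberg S n →ₗ[ℂ] ({d : Chamber S n // Opp Φ.cham d} → ℂ) where
  toFun f d := (f : Chamber S n → ℂ) d.1
  map_add' _ _ := rfl
  map_smul' _ _ := rfl

theorem restrOpp_bijective : Function.Bijective (restrOpp Φ) := by
  classical
  haveI : Fintype {d : Chamber S n // Opp Φ.cham d} := Fintype.ofFinite _
  refine ⟨?_, fun g => ?_⟩
  · rw [← LinearMap.ker_eq_bot, eq_bot_iff]
    intro f hf
    exact Subtype.ext (eq_zero_of_opp Φ f.2 fun d hd => congrFun hf ⟨d, hd⟩)
  · choose Ψ _ hc hd using fun d : {d : Chamber S n // Opp Φ.cham d} => exists_frame_pair Φ d.2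
    refine ⟨∑ d, (g d / theta (Ψ d) d.1) • ⟨theta (Ψ d), theta_mem (Ψ d)⟩, ?_⟩
    funext d'
    simp only [map_sum, map_smul, Finset.sum_apply, Pi.smul_apply, smul_eq_mul]
    rw [Finset.sum_eq_single d']
    · show g d' / theta (Ψ d') d'.1 * theta (Ψ d') d'.1 = g d'
      refine div_mul_cancel₀ _ ?_
      conv => enter [1, 2]; rw [← hd d']
      exact theta_ocham _
    · intro d _ hne
      show g d / theta (Ψ d) d.1 * theta (Ψ d) d'.1 = 0
      rw [theta_eq_zero (Ψ d) (d := d'.1) (by rw [hc]; exact d'.2)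
        (fun e => hne (Subtype.ext (by rw [← hd d, e]))), mul_zero]
    · intro h; exact absurd (Finset.mem_univ _) h

end Cfsg.Agent.Lib.SteinbergFlag
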