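import Cfsg.Agent.Lib.SteinbergFlag.Action
import Cfsg.Agent.Lib.SteinbergFlag.Module
import Cfsg.Agent.Lib.Chars.Basic
import Cfsg.Agent.Lib.Chars.Ops
import Cfsg.Prelude.Def_Characters

/-!
# The Steinberg character of a group of isometries modulo its centre
-/

set_option autoImplicit false
set_option linter.unusedSectionVars false

namespace Cfsg.Agent.Lib.SteinbergFlag

open Cfsg Cfsg.Agent.Lib

universe u v w

variable {F : Type u} {V : Type v} [Field F] [AddCommGroup V] [Module F V] [Finite V] [FiniteDimensional F V]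
variable {S : Space F V} {n p : ℕ} {G : Type w} [Group G]

namespace Action

variable (A : Action S n p G)

theorem act_panel (g : G) {c c' : Chamber S n} {i : ℕ} (h : c' ∈ panel c i) :
    A.act g c' ∈ panel (A.act g c) i := by
  rw [mem_panel] at h ⊢
  intro k hk hki
  rw [A.act_sub, A.act_sub, h k hk hki]

theorem translate_mem (g : G) {f : Chamber S n → ℂ} (hf : f ∈ steinberg S n) :
    (fun c => f (A.act g⁻¹ c)) ∈ steinberg S n := by
  intro c i hi
  rw [← hf (A.act g⁻¹ c) i hi]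
  refine Finset.sum_nbij' (A.act g⁻¹) (A.act g) (fun x hx => A.act_panel _ hx) (fun x hx => ?_)
    (fun x _ => A.act_act_inv g x) (fun x _ => A.act_inv_act g x) (fun _ _ => rfl)
  have := A.act_panel g hx
  rwa [A.act_act_inv] at this

/-- The Steinberg representation. -/
noncomputable def rep : Representation ℂ G (steinberg S n) where
  toFun g :=
    { toFun := fun f => ⟨fun c => f.1 (A.act g⁻¹ c), A.translate_mem g f.2⟩
      map_add' := fun _ _ => rfl
      map_smul' := fun _ _ => rfl }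
  map_one' := by
    refine LinearMap.ext fun f => Subtype.ext (funext fun c => ?_)
    show f.1 (A.act 1⁻¹ c) = f.1 c
    rw [inv_one, A.act_one]
  map_mul' g h := by
    refine LinearMap.ext fun f => Subtype.ext (funext fun c => ?_)
    show f.1 (A.act (g * h)⁻¹ c) = f.1 (A.act h⁻¹ (A.act g⁻¹ c))
    rw [mul_inv_rev, A.act_mul]

theorem rep_apply (g : G) (f : steinberg S n) (c : Chamber S n) :
    (A.rep g f).1 c = f.1 (A.act g⁻¹ c) := rfl

variable [Fact p.Prime] [CharP F p]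

/-- Functions fixed by `U c` form a line. -/
theorem fixed_unique (Φ₀ : Frame S n) (c : Chamber S n) {f g : steinberg S n}
    (hf : ∀ u ∈ A.U c, A.rep u f = f) (hg : ∀ u ∈ A.U c, A.rep u g = g) (hf0 : f ≠ 0) :
    ∃ a : ℂ, g = a • f := by
  obtain ⟨Φ, rfl⟩ := exists_frame Φ₀ c
  have hconst : ∀ x : steinberg S n, (∀ u ∈ A.U Φ.cham, A.rep u x = x) →
      ∀ d, Opp Φ.cham d → x.1 d = x.1 Φ.ocham := by
    intro x hx d hd
    obtain ⟨u, hu, rfl⟩ := A.exists_mem_U Φ hd
    conv_lhs => rw [← hx u hu, A.rep_apply, A.act_inv_act]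
  have ha : f.1 Φ.ocham ≠ 0 := fun e => hf0 (Subtype.ext (eq_zero_of_opp Φ f.2
    fun d hd => (hconst f hf d hd).trans e))
  refine ⟨g.1 Φ.ocham / f.1 Φ.ocham, sub_eq_zero.1 (Subtype.ext (eq_zero_of_opp Φ
    (g - _ • f).2 fun d hd => ?_))⟩
  show g.1 d - g.1 Φ.ocham / f.1 Φ.ocham * f.1 d = 0
  rw [hconst g hg d hd, hconst f hf d hd, div_mul_cancel₀ _ ha, sub_self]

variable [Finite G]

/-- A nonzero subrepresentation has a nonzero vector fixed by some `U c`. -/
theorem exists_fixed {W : Subrepresentation A.rep} (hW : W.toSubmodule ≠ ⊥) :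
    ∃ c, ∃ f ∈ W.toSubmodule, f ≠ 0 ∧ ∀ u ∈ A.U c, A.rep u f = f := by
  classical
  obtain ⟨f, hf, hf0⟩ := Submodule.exists_mem_ne_zero_of_ne_bot hW
  obtain ⟨c, hc⟩ : ∃ c, f.1 c ≠ 0 := by
    by_contra h
    push Not at h
    exact hf0 (Subtype.ext (funext h))
  haveI : Fintype (A.U c) := Fintype.ofFinite _
  refine ⟨c, ∑ u : A.U c, A.rep u.1 f, Submodule.sum_mem _ fun u _ => W.apply_mem_toSubmodule _ hf,
    fun e => ?_, fun v hv => ?_⟩
  · have h1 := congrArg (fun x : steinberg S n => x.1 c) e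
    simp only [AddSubmonoidClass.coe_finsetSum, Finset.sum_apply, A.rep_apply, ZeroMemClass.coe_zero,
      Pi.zero_apply] at h1
    rw [Finset.sum_congr rfl (g := fun _ => f.1 c) fun u _ => by rw [A.act_self (inv_mem u.2)],
      Finset.sum_const, nsmul_eq_mul, mul_eq_zero] at h1
    exact h1.elim (fun h => Fintype.card_ne_zero (α := A.U c) (Nat.cast_eq_zero.1 h)) hc
  · rw [map_sum]
    refine Fintype.sum_equiv (Equiv.mulLeft (⟨v, hv⟩ : A.U c)) _ _ fun u => ?_
    show A.rep v (A.rep u.1 f) = A.rep (v * u.1) f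
    rw [map_mul]
    rfl

theorem rep_irreducible (Φ₀ : Frame S n) : A.rep.IsIrreducible := by
  classical
  haveI hne : Nontrivial (steinberg S n) :=
    ⟨⟨⟨theta Φ₀, theta_mem Φ₀⟩, 0, fun e => theta_ocham Φ₀ (congrFun (congrArg Subtype.val e) _)⟩⟩
  by_contra hirr
  obtain ⟨W, hW0, hW1⟩ := Chars.exists_proper_of_not_irreducible A.rep hirr
  obtain ⟨W', hc⟩ := Chars.exists_isCompl A.rep W
  have hc' := Chars.isCompl_toSubmodule A.rep hc
  have hW'0 : W'.toSubmodule ≠ ⊥ := fun e => hW1 (eq_top_of_isCompl_bot (e ▸ hc'))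
  obtain ⟨c, f, hf, hf0, hfix⟩ := A.exists_fixed hW0
  obtain ⟨d, g, hg, hg0, hgfix⟩ := A.exists_fixed hW'0
  obtain ⟨P, hP⟩ := A.exists_sylow Φ₀ c
  obtain ⟨P', hP'⟩ := A.exists_sylow Φ₀ d
  obtain ⟨x, hx⟩ := MulAction.exists_smul_eq G P P'
  have hfx : ∀ u ∈ A.U d, A.rep u (A.rep x f) = A.rep x f := by
    intro u hu
    have h1 : x⁻¹ * u * x ∈ A.U c := by
      rw [← hP', ← hx, Sylow.coe_subgroup_smul] at hu
      rw [← hP]
      obtain ⟨w, hw, rfl⟩ := Subgroup.mem_map.1 hu
      show x⁻¹ * (x * w * x⁻¹) * x ∈ (P : Subgroup G)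
      rwa [show x⁻¹ * (x * w * x⁻¹) * x = w by group]
    have h2 := congrArg (A.rep x) (hfix _ h1)
    rw [← Module.End.mul_apply, ← map_mul, show x * (x⁻¹ * u * x) = u * x by group, map_mul,
      Module.End.mul_apply] at h2
    exact h2
  obtain ⟨a, ha⟩ := A.fixed_unique Φ₀ d hgfix hfx hg0
  have hmem : A.rep x f ∈ W.toSubmodule ⊓ W'.toSubmodule :=
    ⟨W.apply_mem_toSubmodule x hf, ha ▸ Submodule.smul_mem _ a hg⟩
  rw [hc'.inf_eq_bot, Submodule.mem_bot] at hmem
  refine hf0 ?_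
  have h3 := congrArg (A.rep x⁻¹) hmem
  rw [← Module.End.mul_apply, ← map_mul, inv_mul_cancel, map_one, map_zero] at h3
  exact h3

open Classical in
/-- The character on the unipotent subgroup of a flag is the regular one. -/
theorem character_U (Φ : Frame S n) {x : G} (hx : x ∈ A.U Φ.cham) :
    A.rep.character x = if x = 1 then (Nat.card (A.U Φ.cham) : ℂ) else 0 := by
  let Op := {d : Chamber S n // Opp Φ.cham d}
  haveI : Fintype Op := Fintype.ofFinite _
  let E : steinberg S n ≃ₗ[ℂ] (Op → ℂ) := LinearEquiv.ofBijective (restrOpp Φ) (restrOpp_bijective Φ)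
  have hmove : ∀ d : Op, Opp Φ.cham (A.act x⁻¹ d.1) := fun d => by
    have := A.opp_act d.2 x⁻¹
    rwa [A.act_self (inv_mem hx)] at this
  have htr : A.rep.character x = ∑ d : Op, if A.act x⁻¹ d.1 = d.1 then (1 : ℂ) else 0 := by
    show LinearMap.trace ℂ _ (A.rep x) = _
    rw [← LinearMap.trace_conj' (A.rep x) E, LinearMap.trace_eq_matrix_trace ℂ (Pi.basisFun ℂ Op),
      Matrix.trace]
    refine Finset.sum_congr rfl fun d _ => ?_
    rw [Matrix.diag_apply, LinearMap.toMatrix_apply, Pi.basisFun_apply, Pi.basisFun_repr,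
      LinearEquiv.conj_apply_apply]
    show (A.rep x (E.symm (Pi.single d 1))).1 d.1 = _
    rw [A.rep_apply]
    have h := congrFun (E.apply_symm_apply (Pi.single d 1)) ⟨_, hmove d⟩
    rw [show (E.symm (Pi.single d 1)).1 (A.act x⁻¹ d.1) = E (E.symm (Pi.single d 1)) ⟨_, hmove d⟩ from rfl, h,
      Pi.single_apply]
    by_cases e : A.act x⁻¹ d.1 = d.1
    · rw [if_pos e, if_pos (Subtype.ext e)]
    · rw [if_neg e, if_neg fun e' => e (congrArg Subtype.val e')]
  rw [htr]
  split_ifs with h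
  · subst h
    simp only [inv_one, A.act_one, if_true, Finset.sum_const, nsmul_eq_mul, mul_one, Finset.card_univ]
    rw [Nat.card_congr (A.oppEquiv Φ), Nat.card_eq_fintype_card]
  · refine Finset.sum_eq_zero fun d _ => if_neg fun e => h ?_
    obtain ⟨L, hL⟩ := A.isPGroup_U Φ.cham ⟨x⁻¹, inv_mem hx⟩
    exact inv_eq_one.1 (A.eq_one_of_fix Φ d.2 (L := L) (congrArg Subtype.val hL)
      (A.act_self (inv_mem hx)) e)

include A in
/-- The Steinberg character of the central quotient. -/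
theorem exists_steinberg_character (Φ : Frame S n) :
    ∃ χ : G ⧸ Subgroup.center G → ℂ, IsIrrCharacter (G ⧸ Subgroup.center G) χ ∧
      ∀ P : Sylow p (G ⧸ Subgroup.center G), χ 1 = Nat.card P ∧
        ∀ x : G ⧸ Subgroup.center G, x ∈ P → x ≠ 1 → χ x = 0 := by
  classical
  haveI := A.rep_irreducible Φ
  obtain ⟨ψ, hψ⟩ := Chars.exists_irr_quotient (Subgroup.center G) (Chars.toIrr A.rep) (by
    intro z hz
    show A.rep.character z = A.rep.character 1
    have : A.rep z = 1 := LinearMap.ext fun f => Subtype.ext (funext fun c => by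
      rw [A.rep_apply, A.act_center Φ (inv_mem hz)]
      rfl)
    simp only [Representation.character, this, map_one])
  refine ⟨ψ.1, ψ.2, fun P => ?_⟩
  obtain ⟨P₀, hP₀⟩ := A.exists_sylow Φ Φ.cham
  set π := QuotientGroup.mk' (Subgroup.center G)
  have hπ : Function.Surjective π := QuotientGroup.mk'_surjective _
  set Q : Sylow p (G ⧸ Subgroup.center G) := P₀.mapSurjective hπ
  have hQ : (Q : Subgroup (G ⧸ Subgroup.center G)) = (A.U Φ.cham).map π := by
    rw [Sylow.coe_mapSurjective, hP₀]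
  have hinj : ∀ a ∈ A.U Φ.cham, π a = 1 → a = 1 := by
    intro a ha h1
    have hz : a ∈ Subgroup.center G := (QuotientGroup.eq_one_iff a).1 h1
    obtain ⟨L, hL⟩ := A.isPGroup_U Φ.cham ⟨a, ha⟩
    exact A.eq_one_of_fix Φ Φ.opp (L := L) (congrArg Subtype.val hL) (A.act_self ha) (A.act_center Φ hz _)
  have hcardQ : Nat.card Q = Nat.card (A.U Φ.cham) := by
    show Nat.card (Q : Subgroup (G ⧸ Subgroup.center G)) = _
    rw [hQ]
    refine (Nat.card_congr (Equiv.ofBijective (fun a : A.U Φ.cham => (⟨π a.1, Subgroup.mem_map_of_mem π a.2⟩ :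
      (A.U Φ.cham).map π)) ⟨fun a b e => ?_, ?_⟩)).symm
    · have e' : π (a.1⁻¹ * b.1) = 1 := by
        rw [map_mul, map_inv, show π a.1 = π b.1 from congrArg Subtype.val e, inv_mul_cancel]
      exact Subtype.ext (inv_mul_eq_one.1 (hinj _ (mul_mem (inv_mem a.2) b.2) e'))
    · rintro ⟨_, a, ha, rfl⟩
      exact ⟨⟨a, ha⟩, rfl⟩
  obtain ⟨y, hy⟩ := MulAction.exists_smul_eq (G ⧸ Subgroup.center G) Q P
  refine ⟨?_, fun x hx hx1 => ?_⟩
  · rw [← QuotientGroup.mk_one, hψ 1, ← hy, Sylow.card_eq_multiplicity, ← Sylow.card_eq_multiplicity Q, hcardQ]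
    show A.rep.character 1 = _
    rw [A.character_U Φ (one_mem _), if_pos rfl]
  · rw [← hy] at hx
    change x ∈ ((y • Q : Sylow p (G ⧸ Subgroup.center G)) : Subgroup (G ⧸ Subgroup.center G)) at hx
    rw [Sylow.coe_subgroup_smul] at hx
    obtain ⟨w, hw, rfl⟩ := Subgroup.mem_map.1 hx
    rw [hQ] at hw
    obtain ⟨a, ha, rfl⟩ := Subgroup.mem_map.1 hw
    show ψ.1 (y * π a * y⁻¹) = 0
    rw [Chars.irr_isClassFunction ψ (π a) y]
    show ψ.1 (a : G ⧸ Subgroup.center G) = 0
    rw [hψ a]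
    show A.rep.character a = 0
    rw [A.character_U Φ ha, if_neg]
    rintro rfl
    exact hx1 (by simp)

end Action

end Cfsg.Agent.Lib.SteinbergFlag
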