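import Cfsg.Agent.Lib.SteinbergFlag.Action
import Cfsg.Agent.Lib.SteinbergFlag.Anisotropic
import Cfsg.Agent.Lib.Forms.Bridge
import Cfsg.Agent.Lib.Dickson.Invariant
import Cfsg.Agent.Lib.Orth.Generation

/-!
# The orthogonal groups `Omega` as groups of isometries of polar spaces
-/

set_option autoImplicit false
set_option linter.unusedSectionVars false

namespace Cfsg.Agent.Lib.SteinbergFlag

open Cfsg Cfsg.Agent.Lib QuadraticMap

universe u

variable {ι : Type} [Fintype ι] [DecidableEq ι] {F : Type u} [Field F]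
variable (Q : QuadraticForm F (ι → F))

/-- The polar space of a quadratic form. -/
noncomputable def quadSpace : Space F (ι → F) where
  τ := RingHom.id F
  τ_inv _ := rfl
  ε := 1
  B u v := polarBilin Q u v
  B_add_left x x' y := by simp only [map_add, LinearMap.add_apply]
  B_smul_left c x y := by simp only [map_smul, LinearMap.smul_apply, smul_eq_mul]
  B_symm x y := by
    rw [one_mul, RingHom.id_apply, polarBilin_apply_apply, polarBilin_apply_apply, polar_comm]
  N x := Q x
  φ t := t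
  φ_zero := rfl
  N_add x y := by
    rw [polarBilin_apply_apply, polar]
    ring
  N_smul c x := by rw [QuadraticMap.map_smul, RingHom.id_apply, smul_eq_mul]
  N_self x hx := by rw [polarBilin_apply_apply, polar_self, hx, smul_zero]
  φ_sol x := ⟨-Q x, add_neg_cancel _⟩

variable {Q} {n : ℕ}

theorem quadSpace_B (u v : ι → F) : (quadSpace Q).B u v = polar ⇑Q u v := rfl

theorem quadSpace_isIso (g : ↥(isometryGroup F ⇑Q)) : (quadSpace Q).IsIso (Forms.isoToEquiv ⇑Q g) := by
  have hN : ∀ x, Q (Forms.isoToEquiv ⇑Q g x) = Q x := Forms.isometryGroup_apply g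
  refine ⟨fun x y => ?_, hN⟩
  simp only [quadSpace_B, polar, ← map_add, hN]

/-- The orthogonal of the first half of a frame has codimension `n`. -/
theorem Frame.finrank_perp_E (Φ : Frame (quadSpace Q) n) :
    Module.finrank F ((quadSpace Q).perp (Φ.E n)) + n = Fintype.card ι := by
  let L : (ι → F) →ₗ[F] (Fin n → F) := LinearMap.pi fun i => (quadSpace Q).Bl (Φ.e i)
  have hker : LinearMap.ker L = (quadSpace Q).perp (Φ.E n) := by
    ext v
    rw [LinearMap.mem_ker, Φ.mem_perp_E, funext_iff]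
    exact ⟨fun h i _ => h i, fun h i => h i i.2⟩
  have hsurj : Function.Surjective L := by
    intro y
    refine ⟨∑ i, y i • Φ.f i, funext fun j => ?_⟩
    show (quadSpace Q).B _ (Φ.e j) = _
    rw [Φ.B_sum_f_left]
    exact mul_one _
  have h := L.finrank_range_add_finrank_ker
  rw [LinearMap.range_eq_top.2 hsurj, finrank_top, Module.finrank_fin_fun, hker,
    Module.finrank_fintype_fun_eq_card] at h
  omega

/-- Unipotent isometries have trivial Dickson invariant. -/
theorem dickson_of_unip (hQ : (polarBilin Q).Nondegenerate) (Φ : Frame (quadSpace Q) n)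
    (g : ↥(isometryGroup F ⇑Q)) (hU : IsUnip Φ.cham (Forms.isoToEquiv ⇑Q g)) :
    Dickson.dickson hQ g = 1 := by
  set E := Φ.E n
  set W := (quadSpace Q).perp E
  let φ : W × E →ₗ[F] (ι → F) × (ι → F) :=
    LinearMap.prod (W.subtype.comp (LinearMap.fst F W E) + E.subtype.comp (LinearMap.snd F W E))
      (W.subtype.comp (LinearMap.fst F W E))
  have hφ : ∀ x, φ x = ((x.1 : ι → F) + (x.2 : ι → F), (x.1 : ι → F)) := fun x => rfl
  have hinj : Function.Injective φ := by
    intro x y h
    rw [hφ, hφ, Prod.ext_iff] at h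
    have h1 : x.1 = y.1 := Subtype.ext h.2
    refine Prod.ext h1 (Subtype.ext ?_)
    have := h.1
    simp only [h1] at this
    exact add_left_cancel this
  have hL : Parity.IsLagr (Dickson.doubled Q) (LinearMap.range φ) := by
    refine ⟨?_, ?_⟩
    · rintro _ ⟨x, rfl⟩
      rw [hφ]
      show Q ((x.1 : ι → F) + (x.2 : ι → F)) - Q (x.1 : ι → F) = 0
      have h1 := (quadSpace Q).N_add_orth (x.1.2 _ x.2.2)
      have h2 : Q (x.2 : ι → F) = 0 := (Φ.ts_E n _ x.2.2).1
      change Q _ = Q _ + Q _ at h1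
      rw [h1, h2, add_zero, sub_self]
    · rw [LinearMap.finrank_range_of_inj hinj, Module.finrank_prod, Module.finrank_prod,
        Module.finrank_fintype_fun_eq_card]
      have h1 := Φ.finrank_perp_E
      have h2 : Module.finrank F E = n := Φ.finrank_E le_rfl
      change Module.finrank F W + n = _ at h1
      omega
  set T := (Dickson.leftAct Q g)
  have hmap : (LinearMap.range φ).map T.toLinearMap = LinearMap.range φ := by
    refine Submodule.eq_of_le_of_finrank_le ?_ (by rw [LinearEquiv.finrank_map_eq])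
    rintro _ ⟨_, ⟨x, rfl⟩, rfl⟩
    have h1 : Forms.isoToEquiv ⇑Q g (x.1 : ι → F) - (x.1 : ι → F) ∈ E := hU.2 _ x.1.2
    have h2 : Forms.isoToEquiv ⇑Q g (x.2 : ι → F) ∈ E := hU.map_le le_rfl x.2.2
    refine ⟨(x.1, ⟨_, E.add_mem h1 h2⟩), ?_⟩
    rw [hφ, hφ]
    show _ = (Dickson.toLin Q g ((x.1 : ι → F) + (x.2 : ι → F)), (x.1 : ι → F))
    rw [map_add]
    refine Prod.ext ?_ rfl
    show (x.1 : ι → F) + (Forms.isoToEquiv ⇑Q g x.1 - x.1 + Forms.isoToEquiv ⇑Q g x.2) = _
    rw [show Dickson.toLin Q g = Forms.isoToEquiv ⇑Q g from rfl]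
    abel
  have hD := Dickson.isLagr_diag Q
  have hDg := hD.map T (Dickson.leftAct_preserves g)
  have hnd := Dickson.doubled_nondegenerate hQ
  show (-1 : ℤˣ) ^ _ = 1
  rw [← Dickson.par_diag, ← Parity.par_mul hnd hD hL hDg]
  have h3 : Parity.par (LinearMap.range φ) ((Dickson.diag ι F).map T.toLinearMap) =
      Parity.par (LinearMap.range φ) (Dickson.diag ι F) := by
    conv_lhs => rw [← hmap]
    rw [Parity.par_map]
  rw [h3, Parity.par_mul hnd hD hL hD, Parity.par, inf_idem, ← two_mul, pow_mul]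
  simp

variable [Fintype F] {p : ℕ} [Fact p.Prime] [CharP F p]

theorem eq_two_of_two (h : (2 : F) = 0) : p = 2 :=
  (Nat.prime_dvd_prime_iff_eq Fact.out Nat.prime_two).1 ((CharP.cast_eq_zero_iff F p 2).1 (by exact_mod_cast h))

include p in
/-- Unipotent isometries lie in `Omega`. -/
theorem mem_omega_of_unip (hQ : (polarBilin Q).Nondegenerate)
    (hex : (2 : F) ≠ 0 ∨ (∃ c : F, c ≠ 0 ∧ c ≠ 1) ∨ Fintype.card ι ≠ 4)
    (Φ : Frame (quadSpace Q) n) (g : ↥(isometryGroup F ⇑Q))
    (hU : IsUnip Φ.cham (Forms.isoToEquiv ⇑Q g)) : g ∈ Omega F ⇑Q := by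
  classical
  by_cases h2 : (2 : F) = 0
  · have hp := eq_two_of_two (p := p) h2
    subst hp
    exact (Dickson.mem_omega_iff_charTwo hQ (hex.resolve_left fun h => h h2) (Dickson.dickson hQ)
      (fun v hv => Dickson.dickson_refl hQ hv) g).2 (dickson_of_unip hQ Φ g hU)
  · let A := Abelianization ↥(isometryGroup F ⇑Q)
    have hsq : ∀ x, (Abelianization.of x : A) ^ 2 = 1 := by
      refine Dickson.reflections_induction (P := fun x => (Abelianization.of x : A) ^ 2 = 1) hQ ?_
        (by rw [map_one, one_pow]) (fun a b ha hb => by rw [map_mul, mul_pow, ha, hb, mul_one])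
        (fun v hv => by rw [← map_pow, _root_.sq, Orth.refl_mul_self hv, map_one])
      refine Or.inl ⟨-1, by norm_num, fun e => h2 ?_⟩
      linear_combination -e
    have hpow : g ^ p ^ (2 * n + 1) = 1 := Forms.isoToEquiv_injective ⇑Q (by
      rw [map_pow, map_one]; exact hU.pow_eq_one (quadSpace_isIso g))
    have hodd : Odd (p ^ (2 * n + 1)) := by
      refine ((Fact.out : p.Prime).odd_of_ne_two ?_).pow
      rintro rfl
      exact h2 (CharP.cast_eq_zero F 2)
    obtain ⟨k, hk⟩ := hodd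
    have h1 : (Abelianization.of g : A) = 1 := by
      have : (Abelianization.of g : A) ^ p ^ (2 * n + 1) = 1 := by rw [← map_pow, hpow, map_one]
      rw [hk, pow_succ, pow_mul, hsq, one_pow, one_mul] at this
      exact this
    exact (QuotientGroup.eq_one_iff g).1 h1

theorem exists_fixed_vector {V : Type*} [AddCommGroup V] [Module F V] {T : V ≃ₗ[F] V} {L : ℕ}
    (hp : T ^ p ^ L = 1) {Z : Submodule F V} (hZ : ∀ z ∈ Z, T z ∈ Z) (hne : Z ≠ ⊥) :
    ∃ z ∈ Z, z ≠ 0 ∧ T z = z := by
  obtain ⟨x, hx, hx0⟩ := Submodule.exists_mem_ne_zero_of_ne_bot hne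
  let D : Module.End F V := (T : V →ₗ[F] V) - 1
  have hDZ : ∀ k, ∀ z ∈ Z, (D ^ k) z ∈ Z := by
    intro k
    induction k with
    | zero => exact fun z hz => hz
    | succ k ih =>
      intro z hz
      rw [pow_succ', Module.End.mul_apply]
      exact Z.sub_mem (hZ _ (ih z hz)) (ih z hz)
  haveI : Nontrivial V := ⟨⟨x, 0, hx0⟩⟩
  haveI : CharP (Module.End F V) p :=
    charP_of_injective_algebraMap (FaithfulSMul.algebraMap_injective F (Module.End F V)) p
  have hnil : (D ^ p ^ L) x = 0 := by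
    have h5 : ∀ k : ℕ, ((T ^ k : V ≃ₗ[F] V) : V →ₗ[F] V) = ((T : V →ₗ[F] V) : Module.End F V) ^ k := by
      intro k
      induction k with
      | zero => rfl
      | succ k ih => rw [pow_succ, pow_succ, ← ih]; rfl
    have : D ^ p ^ L = 0 := by
      show ((T : V →ₗ[F] V) - 1 : Module.End F V) ^ p ^ L = 0
      rw [sub_pow_char_pow_of_commute _ _ (Commute.one_right _), one_pow, ← h5, hp]
      exact sub_self _
    rw [this]; rfl
  have hfind : ∀ N, (D ^ N) x = 0 → ∃ z ∈ Z, z ≠ 0 ∧ D z = 0 := by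
    intro N
    induction N with
    | zero => intro h; exact absurd h hx0
    | succ N ih =>
      intro h
      by_cases h' : (D ^ N) x = 0
      · exact ih h'
      · exact ⟨_, hDZ N x hx, h', by rwa [← Module.End.mul_apply, ← pow_succ']⟩
  obtain ⟨z, hz, hz0, hDz⟩ := hfind _ hnil
  exact ⟨z, hz, hz0, sub_eq_zero.1 hDz⟩

/-- The pointwise stabiliser of a frame in `Omega` has no nontrivial `p`-elements. -/
theorem omega_torus (hQ : (polarBilin Q).Nondegenerate) (hcard : Fintype.card ι ≤ 2 * n + 2)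
    (Φ : Frame (quadSpace Q) n) (g : Omega F ⇑Q) {L : ℕ} (hg : g ^ p ^ L = 1)
    (he : ∀ i, Forms.isoToEquiv ⇑Q g.1 (Φ.e i) = Φ.e i)
    (hf : ∀ i, Forms.isoToEquiv ⇑Q g.1 (Φ.f i) = Φ.f i) : g = 1 := by
  classical
  set T := Forms.isoToEquiv ⇑Q g.1 with hT
  have hiso : (quadSpace Q).IsIso T := quadSpace_isIso g.1
  have hp : T ^ p ^ L = 1 := by rw [hT, ← map_pow, ← SubgroupClass.coe_pow, hg, OneMemClass.coe_one, map_one]
  suffices T = 1 from Subtype.ext (Forms.isoToEquiv_injective ⇑Q (this.trans (map_one _).symm))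
  by_cases hsmall : Fintype.card ι ≤ 2 * n + 1
  · exact Φ.eq_one_of_small (by rw [Module.finrank_fintype_fun_eq_card]; exact hsmall) hiso hp he hf
  set Z := Φ.aniSpace
  have hdim : Module.finrank F Z = 2 := by
    have := Φ.finrank_aniSpace
    rw [Module.finrank_fintype_fun_eq_card] at this
    change 2 * n + Module.finrank F Z = _ at this
    omega
  have hTZ : ∀ z ∈ Z, T z ∈ Z := fun z hz => Φ.map_aniSpace hiso he hf hz
  obtain ⟨z₀, hz₀, hz₀0, hfix⟩ := exists_fixed_vector hp hTZ (fun e => by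
    rw [e, finrank_bot] at hdim; omega)
  have hQ0 : Q z₀ ≠ 0 := fun h => hz₀0 (Φ.aniso z₀ (Φ.mem_aniSpace.1 hz₀) h)
  let f₀ : Z →ₗ[F] F := ((quadSpace Q).Bl z₀).comp Z.subtype
  have hf₀ : f₀ ≠ 0 := by
    intro h
    refine hz₀0 (hQ.1 z₀ fun x => ?_)
    show (quadSpace Q).B z₀ x = 0
    refine (quadSpace Q).B_eq_zero_symm ?_
    conv_lhs => rw [Φ.decomp x]
    have h1 : ∀ i, (quadSpace Q).B (Φ.e i) z₀ = 0 ∧ (quadSpace Q).B (Φ.f i) z₀ = 0 := fun i =>
      ⟨(quadSpace Q).B_eq_zero_symm (Φ.mem_aniSpace.1 hz₀ i).1, (quadSpace Q).B_eq_zero_symm (Φ.mem_aniSpace.1 hz₀ i).2⟩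
    have h2 : (quadSpace Q).B (Φ.comp x) z₀ = 0 :=
      LinearMap.congr_fun h ⟨Φ.comp x, Φ.mem_aniSpace.2 (Φ.comp_orth x)⟩
    simp [(quadSpace Q).B_add_left, (quadSpace Q).B_sum_left, (quadSpace Q).B_smul_left, (h1 _).1, (h1 _).2, h2]
  set K := (LinearMap.ker f₀).map Z.subtype with hK
  have hKdim : Module.finrank F K = 1 := by
    have h := f₀.finrank_range_add_finrank_ker
    rw [LinearMap.range_eq_top.2 (LinearMap.surjective_iff_ne_zero.2 hf₀), finrank_top, Module.finrank_self,
      hdim] at h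
    rw [hK, ← ((LinearMap.ker f₀).equivMapOfInjective _ Z.injective_subtype).finrank_eq]
    omega
  have hKmem : ∀ z, z ∈ K ↔ z ∈ Z ∧ (quadSpace Q).B z z₀ = 0 := by
    intro z
    rw [hK, Submodule.mem_map]
    exact ⟨fun ⟨y, hy, e⟩ => e ▸ ⟨y.2, hy⟩, fun ⟨h1, h2⟩ => ⟨⟨z, h1⟩, h2, rfl⟩⟩
  have hdiff : ∀ z ∈ Z, T z - z ∈ K := by
    intro z hz
    refine (hKmem _).2 ⟨Z.sub_mem (hTZ z hz) hz, ?_⟩
    have h := hiso.1 z z₀
    rw [hfix] at h
    rw [(quadSpace Q).B_sub_left, h, sub_self]
  refine Φ.eq_one_of_fix he hf ?_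
  by_cases h2 : (2 : F) = 0
  · -- otherwise `T - 1` would have rank one
    have hz₀K : z₀ ∈ K := (hKmem _).2 ⟨hz₀, by
      rw [quadSpace_B, polar_self, two_nsmul, ← two_mul, h2, zero_mul]⟩
    have hKspan : Submodule.span F {z₀} = K :=
      Submodule.eq_of_le_of_finrank_le ((Submodule.span_singleton_le_iff_mem _ _).2 hz₀K)
        (by rw [hKdim, finrank_span_singleton hz₀0])
    intro z hz
    by_contra hne
    have hrange : LinearMap.range
        ((((g.1 : Matrix.GeneralLinearGroup ι F) : Matrix ι ι F) - 1).mulVecLin) = Submodule.span F {z₀} := by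
      have happ : ∀ v, (((g.1 : Matrix.GeneralLinearGroup ι F) : Matrix ι ι F) - 1).mulVecLin v = T v - v :=
        fun v => by
          rw [Matrix.mulVecLin_apply, Matrix.sub_mulVec, Matrix.one_mulVec]
          rfl
      refine le_antisymm ?_ ?_
      · rintro _ ⟨v, rfl⟩
        rw [happ, hKspan]
        have : T v - v = T (Φ.comp v) - Φ.comp v := by
          conv_lhs => rw [Φ.decomp v]
          simp only [map_add, map_sum, map_smul, he, hf]
          abel
        rw [this]
        exact hdiff _ (Φ.mem_aniSpace.2 (Φ.comp_orth v))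
      · obtain ⟨c, hc⟩ := Submodule.mem_span_singleton.1 (hKspan.symm ▸ hdiff z hz : T z - z ∈ Submodule.span F {z₀})
        have hc0 : c ≠ 0 := fun e => hne (sub_eq_zero.1 (by rw [← hc, e, zero_smul]))
        rw [Submodule.span_singleton_le_iff_mem]
        refine ⟨c⁻¹ • z, ?_⟩
        rw [map_smul, happ, ← hc, inv_smul_smul₀ hc0]
    have hdick : Dickson.dickson hQ g.1 = -1 := by
      show (-1 : ℤˣ) ^ (Matrix.rank _) = -1
      rw [Matrix.rank, hrange, finrank_span_singleton hz₀0, pow_one]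
    have := Dickson.omega_le_ker (Dickson.dickson hQ) g.2
    rw [MonoidHom.mem_ker, hdick] at this
    exact absurd this (by decide)
  · have hz₀K : z₀ ∉ K := fun h => by
      have := ((hKmem _).1 h).2
      rw [quadSpace_B, polar_self, two_nsmul, ← two_mul] at this
      exact hQ0 ((mul_eq_zero.1 this).resolve_left h2)
    obtain ⟨k, hk, hk0⟩ := Submodule.exists_mem_ne_zero_of_ne_bot
      (fun e : K = ⊥ => by rw [e, finrank_bot] at hKdim; omega)
    have hTk : T k ∈ K := by
      obtain ⟨hkZ, hkB⟩ := (hKmem k).1 hk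
      refine (hKmem _).2 ⟨hTZ k hkZ, ?_⟩
      have h := hiso.1 k z₀
      rw [hfix, hkB] at h
      exact h
    have hKk : Submodule.span F {k} = K := Submodule.eq_of_le_of_finrank_le
      ((Submodule.span_singleton_le_iff_mem _ _).2 hk) (by rw [hKdim, finrank_span_singleton hk0])
    obtain ⟨a, ha⟩ := Submodule.mem_span_singleton.1 (hKk.symm ▸ hTk : T k ∈ Submodule.span F {k})
    have hpw := pow_apply_smul ha.symm (p ^ L)
    rw [hp] at hpw
    have ha1 : a = 1 := by
      refine iterateFrobenius_inj F p L ?_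
      have h4 : ((1 : F) - a ^ p ^ L) • k = 0 := by
        rw [sub_smul, one_smul, ← hpw]
        exact sub_self k
      simp [iterateFrobenius_def, ← sub_eq_zero.1 ((smul_eq_zero.1 h4).resolve_right hk0)]
    have hk1 : T k = k := by rw [← ha, ha1, one_smul]
    intro z hz
    have hsup : Submodule.span F {z₀} ⊔ K = Z := by
      refine Submodule.eq_of_le_of_finrank_le (sup_le ((Submodule.span_singleton_le_iff_mem _ _).2 hz₀)
        fun y hy => ((hKmem y).1 hy).1) ?_
      rw [hdim]
      have hlt : K < Submodule.span F {z₀} ⊔ K := lt_of_le_of_ne le_sup_right fun e =>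
        hz₀K (e ▸ Submodule.mem_sup_left (Submodule.mem_span_singleton_self z₀))
      have := Submodule.finrank_lt_finrank_of_lt hlt
      omega
    obtain ⟨u, hu, v, hv, rfl⟩ := Submodule.mem_sup.1 (hsup.ge hz)
    obtain ⟨b, rfl⟩ := Submodule.mem_span_singleton.1 hu
    obtain ⟨c, rfl⟩ := Submodule.mem_span_singleton.1 (hKk.symm ▸ hv : v ∈ Submodule.span F {k})
    rw [map_add, map_smul, map_smul, hfix, hk1]

/-- `Omega` acting on the polar space, given that it contains the unipotent isometries. -/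
noncomputable def omegaAction (hQ : (polarBilin Q).Nondegenerate)
    (hcard : Fintype.card ι ≤ 2 * n + 2) (hlow : 2 * n ≤ Fintype.card ι)
    (hmem : ∀ (Φ : Frame (quadSpace Q) n) (g : ↥(isometryGroup F ⇑Q)),
      IsUnip Φ.cham (Forms.isoToEquiv ⇑Q g) → g ∈ Omega F ⇑Q) :
    Action (quadSpace Q) n p (Omega F ⇑Q) where
  ρ := (Forms.isoToEquiv ⇑Q).comp (Omega F ⇑Q).subtype
  iso g := quadSpace_isIso g.1
  inj := (Forms.isoToEquiv_injective ⇑Q).comp Subtype.val_injective
  lift Φ T hT hU := by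
    have he : Forms.isoToEquiv ⇑Q (Forms.isoMk T hT.2) = T := Forms.isoToEquiv_isoMk T hT.2
    refine ⟨⟨Forms.isoMk T hT.2, hmem Φ _ ?_⟩, he⟩
    rw [he]; exact hU
  torus Φ g L hg he hf := omega_torus hQ hcard Φ g hg he hf
  flip := by
    by_cases h : 2 * n < Fintype.card ι
    · exact Or.inr (Or.inl (by rwa [Module.finrank_fintype_fun_eq_card]))
    refine Or.inr (Or.inr fun g c hc => ?_)
    set c' := c.map ((Forms.isoToEquiv ⇑Q).comp (Omega F ⇑Q).subtype g) (quadSpace_isIso g.1) with hc'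
    have hlagr : Parity.IsLagr Q (c.sub n) :=
      ⟨fun x hx => (c.ts x hx).1, by rw [c.dim n le_rfl, Module.finrank_fintype_fun_eq_card]; omega⟩
    have hk := Dickson.omega_le_ker (Dickson.classChar hQ hlagr) g.2
    rw [MonoidHom.mem_ker] at hk
    change Parity.par (c.sub n) (c'.sub n) = 1 at hk
    refine Chamber.ext' fun k hkn => ?_
    rcases lt_or_eq_of_le hkn with hlt | rfl
    · exact hc k hlt
    by_contra hne
    rcases Nat.eq_zero_or_pos k with rfl | hpos
    · exact hne (c'.sub_zero.trans c.sub_zero.symm)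
    have hlt : c.sub k ⊓ c'.sub k < c.sub k := lt_of_le_of_ne inf_le_left fun e => hne
      (Submodule.eq_of_le_of_finrank_le (inf_eq_left.1 e) (by rw [c.dim k le_rfl, c'.dim k le_rfl])).symm
    have h1 := Submodule.finrank_lt_finrank_of_lt hlt
    rw [c.dim k le_rfl] at h1
    have h2 : c.sub (k - 1) ≤ c.sub k ⊓ c'.sub k := le_inf (c.mono (Nat.sub_le _ _))
      ((hc (k - 1) (by omega)).symm.le.trans (c'.mono (Nat.sub_le _ _)))
    have h3 := Submodule.finrank_mono h2
    rw [c.dim (k - 1) (Nat.sub_le _ _)] at h3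
    rw [Parity.par, c.dim k le_rfl,
      show k + Module.finrank F ↥(c.sub k ⊓ c'.sub k) = 2 * (k - 1) + 1 by omega, pow_succ, pow_mul] at hk
    simp at hk

end Cfsg.Agent.Lib.SteinbergFlag
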