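import Cfsg.Agent.Lib.Dickson.StdQuad
import Cfsg.Agent.Lib.Orth.Basic
import Cfsg.Agent.Lib.Chars.PermChar
import Mathlib.GroupTheory.Perm.Finite

/-!
# The Steinberg character of `POmega` of the hyperbolic form in dimension four over the field with two elements

The six non-singular vectors fall into two triples (pairs in one triple are not orthogonal, pairs in
different triples are); the isometry group embeds into the permutations preserving this partition.
-/

set_option autoImplicit false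

namespace Cfsg.Agent.Lib.SteinbergFlag.PlusFourTwo

open Cfsg Cfsg.Agent.Lib QuadraticMap Equiv
open scoped commutatorElement

universe u

variable (F : Type u) [Field F]

local notation "Q₄" => StdForms.plusQ F 2
/-- The isometry group. -/
abbrev Iso4 : Type u := ↥(isometryGroup F ⇑(StdForms.plusQ F 2))

/-- The non-singular vectors. -/
def vec : Fin 3 ⊕ Fin 3 → (Fin 2 ⊕ Fin 2 → F) :=
  Sum.elim
    ![Sum.elim ![1, 1] ![1, 0], Sum.elim ![1, 0] ![1, 1], Sum.elim ![0, 1] ![0, 1]]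
    ![Sum.elim ![1, 1] ![0, 1], Sum.elim ![0, 1] ![1, 1], Sum.elim ![1, 0] ![1, 0]]

variable {F}
variable (h2 : (2 : F) = 0) (hF : ∀ c : F, c = 0 ∨ c = 1)

theorem polar_eq (u v : Fin 2 ⊕ Fin 2 → F) :
    polar ⇑Q₄ u v = (u (.inl 0) * v (.inr 0) + u (.inl 1) * v (.inr 1)) +
      (v (.inl 0) * u (.inr 0) + v (.inl 1) * u (.inr 1)) := by
  rw [StdForms.coe_plusQ, StdForms.polar_plus, Fin.sum_univ_two, Fin.sum_univ_two]

theorem Q_eq (v : Fin 2 ⊕ Fin 2 → F) :
    Q₄ v = v (.inl 0) * v (.inr 0) + v (.inl 1) * v (.inr 1) := by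
  rw [show Q₄ v = quadFormPlus 2 F v from congrFun (StdForms.coe_plusQ F 2) v, quadFormPlus,
    Fin.sum_univ_two]

theorem Q_vec (k : Fin 3 ⊕ Fin 3) : Q₄ (vec F k) = 1 := by
  rcases k with k | k <;> fin_cases k <;> simp [Q_eq, vec]

theorem Q_vec_ne (k : Fin 3 ⊕ Fin 3) : Q₄ (vec F k) ≠ 0 := by
  rw [Q_vec]; exact one_ne_zero

theorem vec_injective : Function.Injective (vec F) := by
  rintro (k | k) (l | l) h <;> fin_cases k <;> fin_cases l <;>
    first
    | rfl
    | (exfalso; simp [vec, funext_iff, Fin.forall_fin_two] at h)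

theorem ext_four {u v : Fin 2 ⊕ Fin 2 → F} (h₁ : u (.inl 0) = v (.inl 0)) (h₂ : u (.inl 1) = v (.inl 1))
    (h₃ : u (.inr 0) = v (.inr 0)) (h₄ : u (.inr 1) = v (.inr 1)) : u = v := by
  funext l
  rcases l with i | i <;> fin_cases i <;> assumption

include h2 hF in
theorem exists_vec {v : Fin 2 ⊕ Fin 2 → F} (hv : Q₄ v ≠ 0) : ∃ k, v = vec F k := by
  have h11 : (1 : F) + 1 = 0 := by rw [one_add_one_eq_two, h2]
  rw [Q_eq] at hv
  rcases hF (v (.inl 0)) with a | a <;> rcases hF (v (.inl 1)) with b | b <;>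
    rcases hF (v (.inr 0)) with c | c <;> rcases hF (v (.inr 1)) with d | d <;>
    simp [a, b, c, d, h11] at hv <;>
    first
    | (refine ⟨.inl 0, ext_four ?_ ?_ ?_ ?_⟩ <;> (simp [vec, a, b, c, d]; done))
    | (refine ⟨.inl 1, ext_four ?_ ?_ ?_ ?_⟩ <;> (simp [vec, a, b, c, d]; done))
    | (refine ⟨.inl 2, ext_four ?_ ?_ ?_ ?_⟩ <;> (simp [vec, a, b, c, d]; done))
    | (refine ⟨.inr 0, ext_four ?_ ?_ ?_ ?_⟩ <;> (simp [vec, a, b, c, d]; done))
    | (refine ⟨.inr 1, ext_four ?_ ?_ ?_ ?_⟩ <;> (simp [vec, a, b, c, d]; done))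
    | (refine ⟨.inr 2, ext_four ?_ ?_ ?_ ?_⟩ <;> (simp [vec, a, b, c, d]; done))

include h2 in
theorem polar_vec (k l : Fin 3 ⊕ Fin 3) (h : k ≠ l) :
    polar ⇑Q₄ (vec F k) (vec F l) = if k.isLeft = l.isLeft then 1 else 0 := by
  have h11 : (1 : F) + 1 = 0 := by rw [one_add_one_eq_two, h2]
  rcases k with k | k <;> rcases l with l | l <;> fin_cases k <;> fin_cases l <;>
    first
    | exact absurd rfl h
    | simp [polar_eq, vec, h11, add_assoc]

/-- The permutation of the non-singular vectors induced by an isometry. -/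
noncomputable def toPerm : (Iso4 F) →* Perm (Fin 3 ⊕ Fin 3) :=
  let f : (Iso4 F) → Fin 3 ⊕ Fin 3 → Fin 3 ⊕ Fin 3 := fun g k =>
    (exists_vec h2 hF (v := Orth.app g (vec F k)) (by rw [Orth.Q_app]; exact Q_vec_ne k)).choose
  have hf : ∀ g k, vec F (f g k) = Orth.app g (vec F k) := fun g k =>
    (exists_vec h2 hF (v := Orth.app g (vec F k)) (by rw [Orth.Q_app]; exact Q_vec_ne k)).choose_spec.symm
  { toFun := fun g =>
      { toFun := f g
        invFun := f g⁻¹
        left_inv := fun k => vec_injective (by rw [hf, hf, Orth.app_inv_app])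
        right_inv := fun k => vec_injective (by rw [hf, hf, Orth.app_app_inv]) }
    map_one' := Equiv.ext fun k => vec_injective (by
      show vec F (f 1 k) = _
      rw [hf, Orth.app_one]
      rfl)
    map_mul' := fun g h => Equiv.ext fun k => vec_injective (by
      show vec F (f (g * h) k) = vec F (f g (f h k))
      rw [hf, hf, hf, Orth.app_mul]) }

theorem vec_toPerm (g : (Iso4 F)) (k : Fin 3 ⊕ Fin 3) :
    vec F (toPerm h2 hF g k) = Orth.app g (vec F k) :=
  (exists_vec h2 hF (v := Orth.app g (vec F k)) (by rw [Orth.Q_app]; exact Q_vec_ne k)).choose_spec.symm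

theorem toPerm_eq {g : (Iso4 F)} {k l : Fin 3 ⊕ Fin 3} (h : Orth.app g (vec F k) = vec F l) :
    toPerm h2 hF g k = l :=
  vec_injective ((vec_toPerm h2 hF g k).trans h)

theorem side_iff (g : (Iso4 F)) (k l : Fin 3 ⊕ Fin 3) :
    (toPerm h2 hF g k).isLeft = (toPerm h2 hF g l).isLeft ↔ k.isLeft = l.isLeft := by
  by_cases h : k = l
  · subst h; simp
  have h' : toPerm h2 hF g k ≠ toPerm h2 hF g l := fun e => h ((toPerm h2 hF g).injective e)
  have := polar_vec h2 _ _ h'
  rw [vec_toPerm, vec_toPerm, Orth.polar_app, polar_vec h2 _ _ h] at this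
  by_cases ha : (toPerm h2 hF g k).isLeft = (toPerm h2 hF g l).isLeft <;>
    by_cases hb : k.isLeft = l.isLeft <;> simp [ha, hb] at this ⊢

theorem toPerm_injective : Function.Injective (toPerm h2 hF) := by
  rw [injective_iff_map_eq_one]
  intro g hg
  have hk : ∀ k, Orth.app g (vec F k) = vec F k := fun k => by
    rw [← vec_toPerm h2 hF, hg]; rfl
  refine Orth.isometry_ext fun v => ?_
  have h11 : (1 : F) + 1 = 0 := by rw [one_add_one_eq_two, h2]
  have hdbl : ∀ x : F, x + x = 0 := fun x => by linear_combination x * h11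
  have hd1 : ∀ x y : F, x + (x + y) = y := fun x y => by rw [← add_assoc, hdbl, zero_add]
  have hd2 : ∀ x y : F, y + x + x = y := fun x y => by rw [add_assoc, hdbl, add_zero]
  have hv : v = v (.inl 0) • (vec F (.inr 0) + vec F (.inl 2)) + v (.inl 1) • (vec F (.inl 0) + vec F (.inr 2))
      + v (.inr 0) • (vec F (.inr 1) + vec F (.inl 2)) + v (.inr 1) • (vec F (.inl 1) + vec F (.inr 2)) :=
    ext_four (by simp [vec, hdbl, add_assoc]) (by simp [vec, hdbl, hd1, hd2]) (by simp [vec, hdbl, hd1, hd2])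
      (by simp [vec, hdbl, ← add_assoc])
  rw [Orth.app_one, hv]
  simp only [Orth.app_add, Orth.app_smul, hk]

/-- Whether an isometry interchanges the two triples. -/
noncomputable def swapHom : (Iso4 F) →* ℤˣ where
  toFun g := if (toPerm h2 hF g (.inl 0)).isLeft then 1 else -1
  map_one' := by rw [map_one]; rfl
  map_mul' g h := by
    rw [map_mul, Perm.mul_apply]
    have := side_iff h2 hF g (toPerm h2 hF h (.inl 0)) (.inl 0)
    revert this
    cases (toPerm h2 hF g (toPerm h2 hF h (.inl 0))).isLeft <;>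
      cases (toPerm h2 hF g (.inl 0)).isLeft <;>
      cases (toPerm h2 hF h (.inl 0)).isLeft <;> simp

theorem mem_range (g : Omega F ⇑Q₄) :
    toPerm h2 hF g.1 ∈ (Perm.sumCongrHom (Fin 3) (Fin 3)).range := by
  have h1 : swapHom h2 hF g.1 = 1 := Abelianization.commutator_subset_ker (swapHom h2 hF) g.2
  refine Perm.mem_sumCongrHom_range_of_perm_mapsTo_inl ?_
  rintro _ ⟨i, rfl⟩
  have h0 : (toPerm h2 hF g.1 (.inl 0)).isLeft = true := by
    by_contra hne
    simp only [swapHom, MonoidHom.coe_mk, OneHom.coe_mk, if_neg hne] at h1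
    exact absurd h1 (by decide)
  have h3 := (side_iff h2 hF g.1 (.inl i) (.inl 0)).2 rfl
  rw [h0, Sum.isLeft_iff] at h3
  obtain ⟨y, hy⟩ := h3
  exact ⟨y, hy.symm⟩

/-- The permutations induced on the two triples. -/
noncomputable def pair : Omega F ⇑Q₄ →* Perm (Fin 3) × Perm (Fin 3) :=
  (MonoidHom.ofInjective Perm.sumCongrHom_injective).symm.toMonoidHom.comp
    (((toPerm h2 hF).comp (Omega F ⇑Q₄).subtype).codRestrict _ (mem_range h2 hF))

theorem toPerm_pair (g : Omega F ⇑Q₄) :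
    toPerm h2 hF g.1 = Perm.sumCongrHom (Fin 3) (Fin 3) (pair h2 hF g) := by
  exact (MonoidHom.apply_ofInjective_symm (f := Perm.sumCongrHom (Fin 3) (Fin 3))
    Perm.sumCongrHom_injective
    (((toPerm h2 hF).comp (Omega F ⇑Q₄).subtype).codRestrict _ (mem_range h2 hF) g)).symm

theorem pair_eq {g : Omega F ⇑Q₄} {a b : Perm (Fin 3)}
    (h : toPerm h2 hF g.1 = Perm.sumCongr a b) : pair h2 hF g = (a, b) :=
  Perm.sumCongrHom_injective ((toPerm_pair h2 hF g).symm.trans h)

/-- The action on the first triple. -/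
noncomputable def psi : Omega F ⇑Q₄ →* Perm (Fin 3) :=
  (MonoidHom.fst _ _).comp (pair h2 hF)

theorem pow_three_of_psi {g : Omega F ⇑Q₄} (h : psi h2 hF g = 1) : g ^ 3 = 1 := by
  have hs : Perm.sign (toPerm h2 hF g.1) = 1 :=
    (MonoidHom.mem_ker (f := Perm.sign.comp (toPerm h2 hF))).1 (Abelianization.commutator_subset_ker (Perm.sign.comp (toPerm h2 hF)) g.2)
  have h1 : (pair h2 hF g).1 = 1 := h
  rw [toPerm_pair h2 hF g, Perm.sumCongrHom_apply, Perm.sign_sumCongr, h1, map_one, one_mul] at hs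
  have key : ∀ b : Perm (Fin 3), Perm.sign b = 1 → b ^ 3 = 1 := by decide
  apply Subtype.ext
  apply toPerm_injective h2 hF
  rw [SubgroupClass.coe_pow, map_pow, toPerm_pair h2 hF g, ← map_pow, OneMemClass.coe_one, map_one,
    show pair h2 hF g ^ 3 = 1 from Prod.ext (by rw [Prod.pow_fst, h1, one_pow]; rfl)
      (by rw [Prod.pow_snd, key _ hs]; rfl), map_one]

include h2 hF in
theorem psi_surjective : Function.Surjective (psi h2 hF) := by
  have h11 : (1 : F) + 1 = 0 := by rw [one_add_one_eq_two, h2]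
  have hneg : (-1 : F) = 1 := neg_eq_of_add_eq_zero_left h11
  -- two reflections and the interchange of the two hyperbolic pairs
  set r := Orth.refl Q₄ (vec F (.inl 0)) (Q_vec_ne _)
  set r' := Orth.refl Q₄ (vec F (.inl 1)) (Q_vec_ne _)
  set s : (Iso4 F) := Orth.ofEquiv Q₄
    (LinearEquiv.funCongrLeft F F (Equiv.sumCongr (swap (0 : Fin 2) 1) (swap (0 : Fin 2) 1)))
    (fun v => by simp [Q_eq, LinearMap.funLeft]; ring)
  have hr : toPerm h2 hF r = Perm.sumCongr (swap 1 2) 1 := by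
    refine Equiv.ext fun k => toPerm_eq h2 hF ?_
    rw [Orth.app_refl]
    rcases k with k | k <;> fin_cases k <;> refine ext_four ?_ ?_ ?_ ?_ <;>
      simp [polar_eq, Q_eq, vec, h11, h2, add_assoc, sub_eq_add_neg, hneg, swap_apply_def]
  have hr' : toPerm h2 hF r' = Perm.sumCongr (swap 0 2) 1 := by
    refine Equiv.ext fun k => toPerm_eq h2 hF ?_
    rw [Orth.app_refl]
    rcases k with k | k <;> fin_cases k <;> refine ext_four ?_ ?_ ?_ ?_ <;>
      simp [polar_eq, Q_eq, vec, h11, h2, add_assoc, sub_eq_add_neg, hneg, swap_apply_def]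
  have hs : toPerm h2 hF s = Equiv.sumComm (Fin 3) (Fin 3) := by
    refine Equiv.ext fun k => toPerm_eq h2 hF ?_
    rw [Orth.app_ofEquiv]
    rcases k with k | k <;> fin_cases k <;> refine ext_four ?_ ?_ ?_ ?_ <;>
      simp [vec, LinearMap.funLeft]
  have hm : ∀ a b : (Iso4 F), ⁅a, b⁆ ∈ Omega F ⇑Q₄ := fun a b =>
    Subgroup.commutator_mem_commutator (Subgroup.mem_top a) (Subgroup.mem_top b)
  have hA : psi h2 hF ⟨⁅r, r'⁆, hm _ _⟩ = ⁅swap (1 : Fin 3) 2, swap (0 : Fin 3) 2⁆ := by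
    refine congrArg Prod.fst (pair_eq h2 hF (b := 1) ?_)
    rw [map_commutatorElement, hr, hr']
    decide
  have hB : psi h2 hF ⟨⁅r, s⁆, hm _ _⟩ = swap (1 : Fin 3) 2 := by
    refine congrArg Prod.fst (pair_eq h2 hF (b := swap 1 2) ?_)
    rw [map_commutatorElement, hr, hs]
    decide
  intro x
  have key : ∀ x : Perm (Fin 3), ∃ i : Fin 3, ∃ j : Fin 2,
      x = ⁅swap (1 : Fin 3) 2, swap (0 : Fin 3) 2⁆ ^ (i : ℕ) * swap (1 : Fin 3) 2 ^ (j : ℕ) := by
    decide
  obtain ⟨i, j, rfl⟩ := key x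
  exact ⟨⟨⁅r, r'⁆, hm _ _⟩ ^ (i : ℕ) * ⟨⁅r, s⁆, hm _ _⟩ ^ (j : ℕ), by rw [map_mul, map_pow, map_pow, hA, hB]⟩

variable [Fintype F]

include h2 hF in
/-- The Steinberg character. -/
theorem exists_steinberg_character :
    ∃ χ : POmega F ⇑Q₄ → ℂ, IsIrrCharacter (POmega F ⇑Q₄) χ ∧
      ∀ P : Sylow 2 (POmega F ⇑Q₄), χ 1 = Nat.card P ∧
        ∀ x : POmega F ⇑Q₄, x ∈ P → x ≠ 1 → χ x = 0 := by
  classical
  have hker : Subgroup.center (Omega F ⇑Q₄) ≤ (psi h2 hF).ker := by
    intro z hz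
    have key : ∀ a : Perm (Fin 3), (∀ b, b * a = a * b) → a = 1 := by decide
    refine key _ fun b => ?_
    obtain ⟨y, rfl⟩ := psi_surjective h2 hF b
    rw [← map_mul, ← map_mul, Subgroup.mem_center_iff.1 hz y]
  set ψ : POmega F ⇑Q₄ →* Perm (Fin 3) := QuotientGroup.lift _ (psi h2 hF) hker
  have hψ : Function.Surjective ψ := fun b => by
    obtain ⟨y, hy⟩ := psi_surjective h2 hF b
    exact ⟨(y : POmega F ⇑Q₄), hy⟩
  have h3 : ∀ x, ψ x = 1 → x ^ 3 = 1 := by
    intro x hx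
    obtain ⟨y, rfl⟩ := QuotientGroup.mk_surjective x
    rw [← QuotientGroup.mk_pow, pow_three_of_psi h2 hF (g := y) hx, QuotientGroup.mk_one]
  letI : MulAction (POmega F ⇑Q₄) (Fin 3) := MulAction.compHom _ ψ
  have hpre : MulAction.IsMultiplyPretransitive (POmega F ⇑Q₄) (Fin 3) 2 := by
    rw [MulAction.is_two_pretransitive_iff]
    have key : ∀ a b c d : Fin 3, a ≠ b → c ≠ d → ∃ σ : Perm (Fin 3), σ a = c ∧ σ b = d := by decide
    intro a b c d hab hcd
    obtain ⟨σ, h1, h2'⟩ := key a b c d hab hcd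
    obtain ⟨g, rfl⟩ := hψ σ
    exact ⟨g, h1, h2'⟩
  haveI : MulAction.IsPretransitive (POmega F ⇑Q₄) (Fin 3) := ⟨fun a b => by
    obtain ⟨g, hg⟩ := hψ (swap a b)
    exact ⟨g, show ψ g a = b by rw [hg, swap_apply_left]⟩⟩
  refine ⟨fun g => Chars.permChar (Fin 3) g - 1,
    (Chars.isIrrCharacter_permChar_sub_one_iff (Fin 3)).2 hpre, fun P => ?_⟩
  haveI : Fact (Nat.Prime 2) := ⟨Nat.prime_two⟩
  have hinj : ∀ x ∈ (P : Subgroup (POmega F ⇑Q₄)), ψ x = 1 → x = 1 := by
    intro x hx h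
    obtain ⟨k, hk⟩ := P.2 ⟨x, hx⟩
    have hk' : x ^ 2 ^ k = 1 := congrArg Subtype.val hk
    have := pow_gcd_eq_one.2 ⟨hk', h3 x h⟩
    rwa [show Nat.gcd (2 ^ k) 3 = 1 from Nat.Coprime.pow_left k (by norm_num), pow_one] at this
  have hcard : Nat.card P = 2 := by
    have h6 : Nat.card (Perm (Fin 3)) = 6 := by rw [Nat.card_perm, Nat.card_fin]; rfl
    have hle : Nat.card P ∣ 6 := h6 ▸ Subgroup.card_dvd_of_injective (ψ.comp (P : Subgroup (POmega F ⇑Q₄)).subtype)
      ((injective_iff_map_eq_one _).2 fun x hx => Subtype.ext (hinj _ x.2 hx))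
    have h2G : 2 ∣ Nat.card P := by
      refine Sylow.dvd_card_of_dvd_card P ?_
      exact (show 2 ∣ Nat.card (Perm (Fin 3)) by rw [h6]; norm_num).trans
        (Subgroup.card_dvd_of_surjective ψ hψ)
    obtain ⟨k, hk⟩ := P.2.exists_card_eq
    rw [hk] at hle h2G ⊢
    match k with
    | 0 => simp at h2G
    | 1 => rfl
    | k + 2 =>
      exfalso
      have : 4 ∣ 6 := (Dvd.intro_left (2 ^ k) (by rw [pow_add]; norm_num)).trans hle
      norm_num at this
  refine ⟨?_, fun x hx hx1 => ?_⟩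
  · have : MulAction.fixedBy (Fin 3) (1 : POmega F ⇑Q₄) = Set.univ := by
      ext i; simp [MulAction.mem_fixedBy]
    show (Nat.card (MulAction.fixedBy (Fin 3) (1 : POmega F ⇑Q₄)) : ℂ) - 1 = _
    rw [hcard, this, Nat.card_univ, Nat.card_fin]
    norm_num
  · have hne : ψ x ≠ 1 := fun h => hx1 (hinj x hx h)
    have hsq : ψ x ^ 2 = 1 := by
      rw [← map_pow]
      have : (⟨x, hx⟩ : (P : Subgroup (POmega F ⇑Q₄))) ^ 2 = 1 := by
        have h' := pow_card_eq_one' (x := (⟨x, hx⟩ : (P : Subgroup (POmega F ⇑Q₄))))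
        rwa [hcard] at h'
      rw [show x ^ 2 = 1 from congrArg Subtype.val this, map_one]
    have key : ∀ a : Perm (Fin 3), a ≠ 1 → a ^ 2 = 1 →
        (Finset.univ.filter fun i => a i = i).card = 1 := by decide
    have : Nat.card (MulAction.fixedBy (Fin 3) x) = 1 := by
      rw [← key _ hne hsq, ← Nat.card_eq_finsetCard]
      exact Nat.card_congr (Equiv.subtypeEquivRight fun i => by simp; rfl)
    show (Nat.card (MulAction.fixedBy (Fin 3) x) : ℂ) - 1 = 0
    rw [this, Nat.cast_one, sub_self]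

end Cfsg.Agent.Lib.SteinbergFlag.PlusFourTwo
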