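import Mathlib

/-!
# Polar spaces given by a form: frames, perps and the Witt bound

A common setting for alternating, Hermitian and quadratic forms.
-/

set_option autoImplicit false
set_option linter.unusedSectionVars false

namespace Cfsg.Agent.Lib.SteinbergFlag

universe u v

variable (F : Type u) (V : Type v) [Field F] [AddCommGroup V] [Module F V]

/-- A reflexive sesquilinear form `B` with a pseudo-quadratic refinement `N`. -/
structure Space where
  τ : F →+* F
  τ_inv : ∀ a, τ (τ a) = a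
  ε : F
  B : V → V → F
  B_add_left : ∀ x x' y, B (x + x') y = B x y + B x' y
  B_smul_left : ∀ c x y, B (c • x) y = c * B x y
  B_symm : ∀ x y, B y x = ε * τ (B x y)
  N : V → F
  φ : F → F
  φ_zero : φ 0 = 0
  N_add : ∀ x y, N (x + y) = N x + N y + φ (B x y)
  N_smul : ∀ c x, N (c • x) = c * τ c * N x
  N_self : ∀ x, N x = 0 → B x x = 0
  φ_sol : ∀ x, ∃ a, N x + φ a = 0

variable {F V}

namespace Space

variable (S : Space F V)

theorem B_add_right (x y y' : V) : S.B x (y + y') = S.B x y + S.B x y' := by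
  rw [S.B_symm (y + y') x, S.B_add_left, map_add, mul_add, ← S.B_symm, ← S.B_symm]

theorem B_smul_right (c : F) (x y : V) : S.B x (c • y) = S.τ c * S.B x y := by
  rw [S.B_symm (c • y) x, S.B_smul_left, map_mul, S.B_symm y x]; ring

/-- `B · y` as a linear functional. -/
def Bl (y : V) : V →ₗ[F] F where
  toFun x := S.B x y
  map_add' x x' := S.B_add_left x x' y
  map_smul' c x := S.B_smul_left c x y

theorem Bl_apply (x y : V) : S.Bl y x = S.B x y := rfl

theorem B_zero_left (y : V) : S.B 0 y = 0 := map_zero (S.Bl y)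
theorem B_zero_right (x : V) : S.B x 0 = 0 := by
  rw [S.B_symm 0 x, S.B_zero_left, map_zero, mul_zero]
theorem B_neg_left (x y : V) : S.B (-x) y = -S.B x y := map_neg (S.Bl y) x
theorem B_sub_left (x x' y : V) : S.B (x - x') y = S.B x y - S.B x' y := map_sub (S.Bl y) x x'
theorem B_neg_right (x y : V) : S.B x (-y) = -S.B x y := by
  rw [← neg_one_smul F y, S.B_smul_right, map_neg, map_one]; ring
theorem B_sub_right (x y y' : V) : S.B x (y - y') = S.B x y - S.B x y' := by
  rw [sub_eq_add_neg, S.B_add_right, S.B_neg_right]; ring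

theorem B_sum_left {ι : Type*} (s : Finset ι) (f : ι → V) (y : V) :
    S.B (∑ i ∈ s, f i) y = ∑ i ∈ s, S.B (f i) y := map_sum (S.Bl y) f s

theorem B_sum_right {ι : Type*} (s : Finset ι) (x : V) (f : ι → V) :
    S.B x (∑ i ∈ s, f i) = ∑ i ∈ s, S.B x (f i) := by
  classical
  induction s using Finset.induction with
  | empty => simp [S.B_zero_right]
  | insert i s hi ih => rw [Finset.sum_insert hi, Finset.sum_insert hi, S.B_add_right, ih]

theorem B_eq_zero_symm {x y : V} (h : S.B x y = 0) : S.B y x = 0 := by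
  rw [S.B_symm, h, map_zero, mul_zero]

theorem N_zero : S.N 0 = 0 := by
  have := S.N_smul 0 (0 : V)
  rw [zero_smul, zero_mul, zero_mul] at this
  exact this

theorem N_add_orth {x y : V} (h : S.B x y = 0) : S.N (x + y) = S.N x + S.N y := by
  rw [S.N_add, h, S.φ_zero, add_zero]

/-- The orthogonal of a subspace. -/
def perp (W : Submodule F V) : Submodule F V where
  carrier := {v | ∀ x ∈ W, S.B v x = 0}
  add_mem' {a b} ha hb x hx := by rw [S.B_add_left, ha x hx, hb x hx, add_zero]
  zero_mem' x _ := S.B_zero_left x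
  smul_mem' c a ha x hx := by rw [S.B_smul_left, ha x hx, mul_zero]

theorem mem_perp {W : Submodule F V} {v : V} : v ∈ S.perp W ↔ ∀ x ∈ W, S.B v x = 0 := Iff.rfl

theorem perp_anti {W W' : Submodule F V} (h : W ≤ W') : S.perp W' ≤ S.perp W :=
  fun _ hv x hx => hv x (h hx)

theorem mem_perp_span {s : Set V} {v : V} : v ∈ S.perp (Submodule.span F s) ↔ ∀ x ∈ s, S.B v x = 0 := by
  refine ⟨fun h x hx => h x (Submodule.subset_span hx), fun h x hx => ?_⟩
  induction hx using Submodule.span_induction with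
  | mem x hx => exact h x hx
  | zero => exact S.B_zero_right v
  | add x y _ _ ha hb => rw [S.B_add_right, ha, hb, add_zero]
  | smul c x _ ha => rw [S.B_smul_right, ha, mul_zero]

/-- Totally singular subspaces. -/
def TS (W : Submodule F V) : Prop := ∀ x ∈ W, S.N x = 0 ∧ ∀ y ∈ W, S.B x y = 0

theorem TS.mono {W W' : Submodule F V} (h : S.TS W') (hle : W ≤ W') : S.TS W :=
  fun x hx => ⟨(h x (hle hx)).1, fun y hy => (h x (hle hx)).2 y (hle hy)⟩

theorem TS.le_perp {W : Submodule F V} (h : S.TS W) : W ≤ S.perp W := fun x hx => (h x hx).2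

theorem ts_span {ι : Type*} (b : ι → V) (hN : ∀ i, S.N (b i) = 0) (hB : ∀ i j, S.B (b i) (b j) = 0) :
    S.TS (Submodule.span F (Set.range b)) := by
  have hperp : ∀ x ∈ Submodule.span F (Set.range b), x ∈ S.perp (Submodule.span F (Set.range b)) := by
    intro x hx
    induction hx using Submodule.span_induction with
    | mem x hx =>
      obtain ⟨i, rfl⟩ := hx
      rw [mem_perp_span]
      rintro _ ⟨j, rfl⟩
      exact hB i j
    | zero => exact Submodule.zero_mem _
    | add x y _ _ ha hb => exact Submodule.add_mem _ ha hb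
    | smul c x _ ha => exact Submodule.smul_mem _ c ha
  intro x hx
  refine ⟨?_, hperp x hx⟩
  induction hx using Submodule.span_induction with
  | mem x hx => obtain ⟨i, rfl⟩ := hx; exact hN i
  | zero => exact S.N_zero
  | add x y hx hy ha hb => rw [S.N_add_orth (hperp x hx y hy), ha, hb, add_zero]
  | smul c x _ ha => rw [S.N_smul, ha, mul_zero]

theorem TS.sup_span_singleton {W : Submodule F V} (h : S.TS W) {v : V} (hN : S.N v = 0)
    (hv : v ∈ S.perp W) : S.TS (W ⊔ Submodule.span F {v}) := by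
  have : W ⊔ Submodule.span F {v} = Submodule.span F
      (Set.range (fun o : Option W => o.elim v (fun w => (w : V)))) := by
    refine le_antisymm (sup_le (fun w hw => Submodule.subset_span ⟨some ⟨w, hw⟩, rfl⟩) ?_) ?_
    · rw [Submodule.span_singleton_le_iff_mem]; exact Submodule.subset_span ⟨none, rfl⟩
    · rw [Submodule.span_le]
      rintro _ ⟨o, rfl⟩
      cases o with
      | none => exact Submodule.mem_sup_right (Submodule.mem_span_singleton_self v)
      | some w => exact Submodule.mem_sup_left w.2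
  rw [this]
  refine S.ts_span _ (fun o => ?_) (fun o o' => ?_)
  · cases o with
    | none => exact hN
    | some w => exact (h w.1 w.2).1
  · cases o with
    | none => cases o' with
      | none => exact S.N_self v hN
      | some w => exact hv w.1 w.2
    | some w => cases o' with
      | none => exact S.B_eq_zero_symm (hv w.1 w.2)
      | some w' => exact (h w.1 w.2).2 w'.1 w'.2

end Space

/-- A hyperbolic frame with anisotropic complement. -/
structure Frame (S : Space F V) (n : ℕ) where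
  e : Fin n → V
  f : Fin n → V
  Ne : ∀ i, S.N (e i) = 0
  Nf : ∀ i, S.N (f i) = 0
  ee : ∀ i j, S.B (e i) (e j) = 0
  ff : ∀ i j, S.B (f i) (f j) = 0
  ef : ∀ i j, S.B (e i) (f j) = if i = j then 1 else 0
  aniso : ∀ z, (∀ i, S.B z (e i) = 0 ∧ S.B z (f i) = 0) → S.N z = 0 → z = 0

namespace Frame

variable {S : Space F V} {n : ℕ} (Φ : Frame S n)

theorem fe (i j : Fin n) : S.B (Φ.f i) (Φ.e j) = if i = j then S.ε else 0 := by
  rw [S.B_symm, Φ.ef]
  rcases eq_or_ne i j with rfl | h
  · simp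
  · simp [h, Ne.symm h]

include Φ in
theorem eps_mul (i : Fin n) : S.ε * S.τ S.ε = 1 := by
  have h := S.B_symm (Φ.f i) (Φ.e i)
  rw [Φ.ef, Φ.fe, if_pos rfl, if_pos rfl] at h
  exact h.symm

include Φ in
theorem eps_ne_zero (i : Fin n) : S.ε ≠ 0 := fun h => by
  have := Φ.eps_mul i
  simp [h] at this

theorem B_sum_e_left (a : Fin n → F) (j : Fin n) : S.B (∑ i, a i • Φ.e i) (Φ.f j) = a j := by
  simp [S.B_sum_left, S.B_smul_left, Φ.ef]

theorem B_sum_e_e (a : Fin n → F) (j : Fin n) : S.B (∑ i, a i • Φ.e i) (Φ.e j) = 0 := by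
  simp [S.B_sum_left, S.B_smul_left, Φ.ee]

theorem B_sum_f_left (a : Fin n → F) (j : Fin n) : S.B (∑ i, a i • Φ.f i) (Φ.e j) = a j * S.ε := by
  simp [S.B_sum_left, S.B_smul_left, Φ.fe]

theorem B_sum_f_f (a : Fin n → F) (j : Fin n) : S.B (∑ i, a i • Φ.f i) (Φ.f j) = 0 := by
  simp [S.B_sum_left, S.B_smul_left, Φ.ff]

/-- The span of the first `k` vectors `e`. -/
def E (k : ℕ) : Submodule F V :=
  Submodule.span F (Set.range fun i : {i : Fin n // i.val < k} => Φ.e i)

theorem e_mem_E {i : Fin n} {k : ℕ} (h : i.val < k) : Φ.e i ∈ Φ.E k :=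
  Submodule.subset_span ⟨⟨i, h⟩, rfl⟩

theorem E_mono : Monotone Φ.E := fun k l hkl => Submodule.span_le.2 (by
  rintro _ ⟨⟨i, hi⟩, rfl⟩
  exact Φ.e_mem_E (hi.trans_le hkl))

theorem E_eq_top {k : ℕ} (h : n ≤ k) : Φ.E k = Φ.E n :=
  le_antisymm (Submodule.span_le.2 (by
    rintro _ ⟨⟨i, hi⟩, rfl⟩
    exact Φ.e_mem_E i.2)) (Φ.E_mono h)

theorem mem_E {k : ℕ} {v : V} : v ∈ Φ.E k ↔
    (v = ∑ i, S.B v (Φ.f i) • Φ.e i) ∧ ∀ i : Fin n, k ≤ i.val → S.B v (Φ.f i) = 0 := by
  constructor
  · intro h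
    induction h using Submodule.span_induction with
    | mem x hx =>
      obtain ⟨⟨i, hi⟩, rfl⟩ := hx
      refine ⟨?_, fun j hj => ?_⟩
      · simp [Φ.ef]
      · show S.B (Φ.e i) (Φ.f j) = 0
        rw [Φ.ef, if_neg]
        rintro rfl
        omega
    | zero => simp [S.B_zero_left]
    | add x y _ _ ha hb =>
      refine ⟨?_, fun i hi => by rw [S.B_add_left, ha.2 i hi, hb.2 i hi, add_zero]⟩
      simp only [S.B_add_left, add_smul, Finset.sum_add_distrib, ← ha.1, ← hb.1]
    | smul c x _ ha =>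
      refine ⟨?_, fun i hi => by rw [S.B_smul_left, ha.2 i hi, mul_zero]⟩
      simp only [S.B_smul_left, ← smul_smul, ← Finset.smul_sum, ← ha.1]
  · rintro ⟨h1, h2⟩
    rw [h1]
    refine Submodule.sum_mem _ fun i _ => ?_
    by_cases hi : i.val < k
    · exact Submodule.smul_mem _ _ (Φ.e_mem_E hi)
    · rw [h2 i (le_of_not_gt hi), zero_smul]; exact Submodule.zero_mem _

theorem ts_E (k : ℕ) : S.TS (Φ.E k) :=
  S.ts_span _ (fun i => Φ.Ne i) fun i j => Φ.ee i j

theorem mem_perp_E {k : ℕ} {v : V} : v ∈ S.perp (Φ.E k) ↔ ∀ i : Fin n, i.val < k → S.B v (Φ.e i) = 0 := by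
  rw [E, S.mem_perp_span]
  exact ⟨fun h i hi => h _ ⟨⟨i, hi⟩, rfl⟩, fun h x ⟨⟨i, hi⟩, e⟩ => e ▸ h i hi⟩

theorem finrank_E {k : ℕ} (hk : k ≤ n) : Module.finrank F (Φ.E k) = k := by
  have hli : LinearIndependent F (fun i : {i : Fin n // i.val < k} => Φ.e i) := by
    rw [Fintype.linearIndependent_iff]
    intro g hg j
    have := congrArg (fun x => S.B x (Φ.f j)) hg
    simpa [S.B_sum_left, S.B_smul_left, S.B_zero_left, Φ.ef, Subtype.coe_injective.eq_iff] using this
  rw [E, finrank_span_eq_card hli]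
  rw [Fintype.card_congr
    (⟨fun i => (⟨i.1.val, i.2⟩ : Fin k), fun i => ⟨⟨i.val, i.2.trans_le hk⟩, i.2⟩,
      fun _ => rfl, fun _ => rfl⟩ : {i : Fin n // i.val < k} ≃ Fin k), Fintype.card_fin]

/-- The component in the anisotropic complement. -/
def comp (v : V) : V :=
  v - ∑ i, S.B v (Φ.f i) • Φ.e i - ∑ i, (S.τ S.ε * S.B v (Φ.e i)) • Φ.f i

theorem comp_orth (v : V) (j : Fin n) : S.B (Φ.comp v) (Φ.e j) = 0 ∧ S.B (Φ.comp v) (Φ.f j) = 0 := by
  have h := Φ.eps_mul j
  constructor
  · rw [comp, S.B_sub_left, S.B_sub_left, Φ.B_sum_e_e, Φ.B_sum_f_left]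
    linear_combination (-(S.B v (Φ.e j))) * h
  · rw [comp, S.B_sub_left, S.B_sub_left, Φ.B_sum_e_left, Φ.B_sum_f_f]
    ring

theorem decomp (v : V) :
    v = ∑ i, S.B v (Φ.f i) • Φ.e i + ∑ i, (S.τ S.ε * S.B v (Φ.e i)) • Φ.f i + Φ.comp v := by
  rw [comp]; abel

/-- A singular vector orthogonal to all of `E n` lies in it. -/
theorem mem_E_of_singular {v : V} (hv : v ∈ S.perp (Φ.E n)) (hN : S.N v = 0) : v ∈ Φ.E n := by
  have hz0 : v - ∑ i, S.B v (Φ.f i) • Φ.e i = 0 := by
    refine Φ.aniso _ (fun j => ⟨?_, ?_⟩) ?_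
    · rw [S.B_sub_left, Φ.B_sum_e_e, Φ.mem_perp_E.1 hv j j.2, sub_zero]
    · rw [S.B_sub_left, Φ.B_sum_e_left, sub_self]
    · set w := ∑ i, S.B v (Φ.f i) • Φ.e i with hw
      have hwE : w ∈ Φ.E n := Submodule.sum_mem _ fun i _ => Submodule.smul_mem _ _ (Φ.e_mem_E i.2)
      have hvw : S.B v (-w) = 0 := hv _ (Submodule.neg_mem _ hwE)
      rw [sub_eq_add_neg, S.N_add_orth hvw, hN, (Φ.ts_E n _ (Submodule.neg_mem _ hwE)).1, add_zero]
  rw [sub_eq_zero.1 hz0]
  exact Submodule.sum_mem _ fun i _ => Submodule.smul_mem _ _ (Φ.e_mem_E i.2)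

include Φ in
theorem eq_zero_of_rad {v : V} (h : ∀ x, S.B v x = 0) (hN : S.N v = 0) : v = 0 :=
  Φ.aniso v (fun _ => ⟨h _, h _⟩) hN

include Φ in
/-- Independent vectors spanning a totally singular space give a surjective pairing map. -/
theorem pairing_surjective {ι : Type*} [Fintype ι] (w : ι → V) (hw : LinearIndependent F w)
    (hts : S.TS (Submodule.span F (Set.range w))) :
    Function.Surjective (LinearMap.pi fun j => S.Bl (w j)) := by
  classical
  rw [← LinearMap.range_eq_top]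
  by_contra hne
  obtain ⟨c, hc0, hc⟩ := Submodule.exists_le_ker_of_lt_top _ (lt_top_iff_ne_top.2 hne)
  set a : ι → F := fun j => c (Pi.single j 1) with ha
  have hrad : ∀ x, S.B (∑ j, S.τ (a j) • w j) x = 0 := by
    intro x
    refine S.B_eq_zero_symm ?_
    have h1 : c ((LinearMap.pi fun j => S.Bl (w j)) x) = 0 := hc ⟨x, rfl⟩
    rw [pi_eq_sum_univ' ((LinearMap.pi fun j => S.Bl (w j)) x), map_sum] at h1
    rw [S.B_sum_right, ← h1]
    refine Finset.sum_congr rfl fun j _ => ?_
    rw [S.B_smul_right, S.τ_inv, map_smul, smul_eq_mul, LinearMap.pi_apply, S.Bl_apply, mul_comm]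
  have h0 := Φ.eq_zero_of_rad hrad (hts _ (Submodule.sum_mem _ fun j _ =>
    Submodule.smul_mem _ _ (Submodule.subset_span ⟨j, rfl⟩))).1
  have ha0 : ∀ j, a j = 0 := fun j => by
    have := congrArg S.τ (Fintype.linearIndependent_iff.1 hw _ h0 j)
    rwa [S.τ_inv, map_zero] at this
  refine hc0 (LinearMap.ext fun y => ?_)
  rw [pi_eq_sum_univ' y, map_sum]
  exact Finset.sum_eq_zero fun j _ => by rw [map_smul, show c (Pi.single j 1) = 0 from ha0 j, smul_zero]

include Φ in
/-- The Witt bound. -/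
theorem finrank_le [FiniteDimensional F V] {W : Submodule F V} (hW : S.TS W) :
    Module.finrank F W ≤ n := by
  classical
  let ψ : W →ₗ[F] (Fin n → F) := (LinearMap.pi fun i => S.Bl (Φ.e i)).comp W.subtype
  set K := LinearMap.ker ψ
  let b := Module.finBasis F K
  let w : Fin (Module.finrank F K) → V := fun j => ((b j : W) : V)
  have hwli : LinearIndependent F w :=
    b.linearIndependent.map' (W.subtype.comp K.subtype)
      (LinearMap.ker_eq_bot.2 (W.injective_subtype.comp K.injective_subtype))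
  have hwE : ∀ j, w j ∈ Φ.E n := fun j => Φ.mem_E_of_singular
    (Φ.mem_perp_E.2 fun i _ => congrFun (b j).2 i) (hW _ (b j : W).2).1
  have hwts : S.TS (Submodule.span F (Set.range w)) :=
    (Φ.ts_E n).mono S (Submodule.span_le.2 (by rintro _ ⟨j, rfl⟩; exact hwE j))
  let L : (Fin n → F) →ₗ[F] (Fin (Module.finrank F K) → F) :=
    LinearMap.pi fun j => ∑ i, S.τ (S.B (w j) (Φ.f i)) • LinearMap.proj i
  have hL : ∀ v, L (fun i => S.B v (Φ.e i)) = fun j => S.B v (w j) := by
    intro v
    funext j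
    conv_rhs => rw [(Φ.mem_E.1 (hwE j)).1, S.B_sum_right]
    simp [L, S.B_smul_right]
  have hLsurj : Function.Surjective L := by
    intro y
    obtain ⟨v, hv⟩ := Φ.pairing_surjective w hwli hwts y
    exact ⟨_, (hL v).trans hv⟩
  have hker : LinearMap.range ψ ≤ LinearMap.ker L := by
    rintro _ ⟨x, rfl⟩
    exact (hL x).trans (funext fun j => (hW x x.2).2 _ (b j : W).2)
  have h1 := ψ.finrank_range_add_finrank_ker
  have h2 := L.finrank_range_add_finrank_ker
  rw [LinearMap.range_eq_top.2 hLsurj, finrank_top, Module.finrank_fin_fun, Module.finrank_fin_fun] at h2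
  have h3 := Submodule.finrank_mono hker
  have h4 : Module.finrank F K = Module.finrank F (LinearMap.ker ψ) := rfl
  omega

end Frame

end Cfsg.Agent.Lib.SteinbergFlag
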