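import Cfsg.Agent.Lib.SteinbergFlag.Chamber

/-!
# Unipotent isometries between frames, and the flags they fix
-/

set_option autoImplicit false
set_option linter.unusedSectionVars false

namespace Cfsg.Agent.Lib.SteinbergFlag

universe u v

variable {F : Type u} {V : Type v} [Field F] [AddCommGroup V] [Module F V] [FiniteDimensional F V]
variable {S : Space F V} {n : ℕ}

/-- Isometries. -/
def Space.IsIso (S : Space F V) (T : V ≃ₗ[F] V) : Prop :=
  (∀ x y, S.B (T x) (T y) = S.B x y) ∧ ∀ x, S.N (T x) = S.N x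

theorem Space.IsIso.symm_apply {T : V ≃ₗ[F] V} (h : S.IsIso T) :
    (∀ x y, S.B (T.symm x) (T.symm y) = S.B x y) ∧ ∀ x, S.N (T.symm x) = S.N x :=
  ⟨fun x y => by rw [← h.1, T.apply_symm_apply, T.apply_symm_apply],
    fun x => by rw [← h.2, T.apply_symm_apply]⟩

theorem Space.IsIso.map_perp {T : V ≃ₗ[F] V} (h : S.IsIso T) (W : Submodule F V) :
    (S.perp W).map T.toLinearMap = S.perp (W.map T.toLinearMap) := by
  ext x
  rw [Submodule.mem_map, S.mem_perp]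
  constructor
  · rintro ⟨y, hy, rfl⟩ z hz
    obtain ⟨w, hw, rfl⟩ := Submodule.mem_map.1 hz
    exact (h.1 y w).trans (hy w hw)
  · intro hx
    refine ⟨T.symm x, fun w hw => ?_, T.apply_symm_apply x⟩
    rw [← h.1, T.apply_symm_apply]
    exact hx _ (Submodule.mem_map_of_mem hw)

/-- The image of a flag under an isometry. -/
def Chamber.map (c : Chamber S n) (T : V ≃ₗ[F] V) (h : S.IsIso T) : Chamber S n where
  sub k := (c.sub k).map T.toLinearMap
  dim k hk := by rw [LinearEquiv.finrank_map_eq, c.dim k hk]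
  mono _ _ hkl := Submodule.map_mono (c.mono hkl)
  top k hk := by rw [c.top k hk]
  ts := by
    rintro _ ⟨x, hx, rfl⟩
    refine ⟨(h.2 x).trans (c.ts x hx).1, ?_⟩
    rintro _ ⟨y, hy, rfl⟩
    exact (h.1 x y).trans ((c.ts x hx).2 y hy)

/-- Acting as the identity on the successive quotients of a flag. -/
def IsUnip (c : Chamber S n) (T : V ≃ₗ[F] V) : Prop :=
  (∀ k, k < n → ∀ x ∈ c.sub (k + 1), T x - x ∈ c.sub k) ∧ ∀ x ∈ S.perp (c.sub n), T x - x ∈ c.sub n

theorem IsUnip.map_le {c : Chamber S n} {T : V ≃ₗ[F] V} (h : IsUnip c T) {k : ℕ} (hk : k ≤ n) {x : V}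
    (hx : x ∈ c.sub k) : T x ∈ c.sub k := by
  rcases Nat.eq_zero_or_pos k with rfl | hpos
  · rw [c.sub_zero, Submodule.mem_bot] at hx
    rw [hx, map_zero]
    exact Submodule.zero_mem _
  · have hk1 : k - 1 + 1 = k := Nat.sub_add_cancel hpos
    have := h.1 (k - 1) (by omega) x (by rwa [hk1])
    rw [show T x = (T x - x) + x by abel]
    exact Submodule.add_mem _ (c.mono (Nat.sub_le _ _) this) hx

theorem IsUnip.map_eq {c : Chamber S n} {T : V ≃ₗ[F] V} (h : IsUnip c T) {k : ℕ} (hk : k ≤ n) :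
    (c.sub k).map T.toLinearMap = c.sub k := by
  refine Submodule.eq_of_le_of_finrank_le (Submodule.map_le_iff_le_comap.2 fun x hx => h.map_le hk hx) ?_
  rw [LinearEquiv.finrank_map_eq]

theorem IsUnip.map_perp {c : Chamber S n} {T : V ≃ₗ[F] V} (hi : S.IsIso T) (h : IsUnip c T) {k : ℕ}
    (hk : k < n) {x : V} (hx : x ∈ S.perp (c.sub k)) : T x - x ∈ S.perp (c.sub (k + 1)) := by
  intro y hy
  obtain ⟨y', hy', rfl⟩ : ∃ y', y' ∈ c.sub (k + 1) ∧ T y' = y := by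
    have := h.map_eq (k := k + 1) hk
    rw [← this] at hy
    exact Submodule.mem_map.1 hy
  rw [S.B_sub_left, hi.1, show T y' = (T y' - y') + y' by abel, S.B_add_right,
    hx _ (h.1 k hk y' hy'), zero_add, sub_self]

/-- A unipotent isometry has prime-power order. -/
theorem IsUnip.pow_eq_one {c : Chamber S n} {T : V ≃ₗ[F] V} (hi : S.IsIso T) (h : IsUnip c T)
    {p : ℕ} [Fact p.Prime] [CharP F p] : T ^ p ^ (2 * n + 1) = 1 := by
  set D : Module.End F V := (T : V →ₗ[F] V) - 1 with hD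
  have hDx : ∀ x, D x = T x - x := fun x => by simp [hD]
  have h1 : ∀ j, j ≤ n → ∀ x, (D ^ j) x ∈ S.perp (c.sub j) := by
    intro j
    induction j with
    | zero =>
      intro _ x y hy
      rw [c.sub_zero, Submodule.mem_bot] at hy
      rw [hy, S.B_zero_right]
    | succ j ih =>
      intro hj x
      rw [pow_succ', Module.End.mul_apply, hDx]
      exact h.map_perp hi hj (ih (Nat.le_of_succ_le hj) x)
  have h2 : ∀ j, j ≤ n → ∀ x, (D ^ (n + 1 + j)) x ∈ c.sub (n - j) := by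
    intro j
    induction j with
    | zero =>
      intro _ x
      rw [add_zero, Nat.sub_zero, pow_succ', Module.End.mul_apply, hDx]
      exact h.2 _ (h1 n le_rfl x)
    | succ j ih =>
      intro hj x
      rw [← add_assoc (n + 1) j 1, pow_succ', Module.End.mul_apply, hDx]
      have := ih (Nat.le_of_succ_le hj) x
      rw [show n - j = n - (j + 1) + 1 by omega] at this
      exact h.1 _ (by omega) _ this
  have h3 : D ^ (2 * n + 1) = 0 := by
    refine LinearMap.ext fun x => ?_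
    have := h2 n le_rfl x
    rw [Nat.sub_self, c.sub_zero, Submodule.mem_bot] at this
    rw [show 2 * n + 1 = n + 1 + n by omega, LinearMap.zero_apply]
    exact this
  refine LinearEquiv.toLinearMap_injective ?_
  rw [LinearEquiv.coe_toLinearMap_one]
  rcases subsingleton_or_nontrivial V with hV | hV
  · exact LinearMap.ext fun x => Subsingleton.elim _ _
  have hcp : CharP (Module.End F V) p :=
    charP_of_injective_algebraMap (FaithfulSMul.algebraMap_injective F (Module.End F V)) p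
  have h4 : ((T : V →ₗ[F] V) : Module.End F V) ^ p ^ (2 * n + 1) = 1 := by
    rw [show ((T : V →ₗ[F] V) : Module.End F V) = D + 1 by rw [hD]; abel,
      add_pow_char_pow_of_commute _ _ (Commute.one_right D), one_pow,
      pow_eq_zero_of_le (Nat.lt_pow_self (Fact.out : p.Prime).one_lt).le h3, zero_add]
  have h5 : ∀ k : ℕ, ((T ^ k : V ≃ₗ[F] V) : V →ₗ[F] V) = ((T : V →ₗ[F] V) : Module.End F V) ^ k := by
    intro k
    induction k with
    | zero => rfl
    | succ k ih => rw [pow_succ, pow_succ, ← ih]; rfl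
  rw [h5]
  exact h4

/-! ### The transporter between two frames on the same flag -/

theorem Frame.B_decomp (Φ : Frame S n) (a b a' b' : Fin n → F) {z z' : V}
    (hz : ∀ i, S.B z (Φ.e i) = 0 ∧ S.B z (Φ.f i) = 0)
    (hz' : ∀ i, S.B z' (Φ.e i) = 0 ∧ S.B z' (Φ.f i) = 0) :
    S.B (∑ i, a i • Φ.e i + ∑ i, b i • Φ.f i + z) (∑ i, a' i • Φ.e i + ∑ i, b' i • Φ.f i + z') =
      ∑ i, a i * S.τ (b' i) + ∑ i, b i * (S.τ (a' i) * S.ε) + S.B z z' := by
  have h1 : ∀ w : V, (∀ i, S.B w (Φ.e i) = 0 ∧ S.B w (Φ.f i) = 0) → ∀ (s t : Fin n → F),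
      S.B w (∑ i, s i • Φ.e i) = 0 ∧ S.B w (∑ i, t i • Φ.f i) = 0 ∧
      S.B (∑ i, s i • Φ.e i) w = 0 ∧ S.B (∑ i, t i • Φ.f i) w = 0 := by
    intro w hw s t
    have he : S.B w (∑ i, s i • Φ.e i) = 0 := by simp [S.B_sum_right, S.B_smul_right, (hw _).1]
    have hf : S.B w (∑ i, t i • Φ.f i) = 0 := by simp [S.B_sum_right, S.B_smul_right, (hw _).2]
    exact ⟨he, hf, S.B_eq_zero_symm he, S.B_eq_zero_symm hf⟩
  obtain ⟨p1, p2, -, -⟩ := h1 z hz a' b'
  obtain ⟨-, -, p3, p4⟩ := h1 z' hz' a b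
  have q1 : S.B (∑ i, a i • Φ.e i) (∑ i, a' i • Φ.e i) = 0 := by
    simp [S.B_sum_left, S.B_sum_right, S.B_smul_left, S.B_smul_right, Φ.ee]
  have q2 : S.B (∑ i, b i • Φ.f i) (∑ i, b' i • Φ.f i) = 0 := by
    simp [S.B_sum_left, S.B_sum_right, S.B_smul_left, S.B_smul_right, Φ.ff]
  have q3 : S.B (∑ i, a i • Φ.e i) (∑ i, b' i • Φ.f i) = ∑ i, a i * S.τ (b' i) := by
    simp [S.B_sum_left, S.B_sum_right, S.B_smul_left, S.B_smul_right, Φ.ef, mul_comm]
  have q4 : S.B (∑ i, b i • Φ.f i) (∑ i, a' i • Φ.e i) = ∑ i, b i * (S.τ (a' i) * S.ε) := by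
    simp [S.B_sum_left, S.B_sum_right, S.B_smul_left, S.B_smul_right, Φ.fe, mul_comm, mul_left_comm]
  simp only [S.B_add_left, S.B_add_right, p1, p2, p3, p4, q1, q2, q3, q4]
  ring

theorem Frame.N_decomp (Φ : Frame S n) (a b : Fin n → F) {z : V}
    (hz : ∀ i, S.B z (Φ.e i) = 0 ∧ S.B z (Φ.f i) = 0) :
    S.N (∑ i, a i • Φ.e i + ∑ i, b i • Φ.f i + z) = S.φ (∑ i, a i * S.τ (b i)) + S.N z := by
  have he : ∑ i, a i • Φ.e i ∈ Φ.E n := Submodule.sum_mem _ fun i _ => Submodule.smul_mem _ _ (Φ.e_mem_E i.2)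
  have hf : ∑ i, b i • Φ.f i ∈ Φ.swap.E n :=
    Submodule.sum_mem _ fun i _ => Submodule.smul_mem _ _ (Φ.swap.e_mem_E i.2)
  have hperp : S.B (∑ i, a i • Φ.e i + ∑ i, b i • Φ.f i) z = 0 := by
    refine S.B_eq_zero_symm ?_
    simp [S.B_add_right, S.B_sum_right, S.B_smul_right, (hz _).1, (hz _).2]
  rw [S.N_add_orth hperp, S.N_add, (Φ.ts_E n _ he).1, (Φ.swap.ts_E n _ hf).1, zero_add, zero_add]
  congr 2
  simp [S.B_sum_left, S.B_sum_right, S.B_smul_left, S.B_smul_right, Φ.ef, mul_comm]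

/-- The component map as a linear map. -/
def Frame.compL (Φ : Frame S n) : V →ₗ[F] V :=
  LinearMap.id - ∑ i, (S.Bl (Φ.f i)).smulRight (Φ.e i)
    - ∑ i, (S.τ S.ε • S.Bl (Φ.e i)).smulRight (Φ.f i)

theorem Frame.compL_apply (Φ : Frame S n) (v : V) : Φ.compL v = Φ.comp v := by
  simp [Frame.compL, Frame.comp, Space.Bl_apply]

theorem Frame.comp_e (Φ : Frame S n) (j : Fin n) : Φ.comp (Φ.e j) = 0 := by
  simp [Frame.comp, Φ.ef, Φ.ee]

theorem Frame.comp_f (Φ : Frame S n) (j : Fin n) : Φ.comp (Φ.f j) = 0 := by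
  have : S.τ S.ε * S.ε = 1 := by rw [mul_comm]; exact Φ.eps_mul j
  simp [Frame.comp, Φ.ff, Φ.fe, this]

theorem Frame.comp_of_orth (Φ : Frame S n) {z : V} (hz : ∀ i, S.B z (Φ.e i) = 0 ∧ S.B z (Φ.f i) = 0) :
    Φ.comp z = z := by
  simp [Frame.comp, (hz _).1, (hz _).2]

/-- The linear map carrying one frame to another. -/
def transLin (Φ Φ' : Frame S n) : V →ₗ[F] V :=
  ∑ i, (S.Bl (Φ.f i)).smulRight (Φ'.e i) + ∑ i, (S.τ S.ε • S.Bl (Φ.e i)).smulRight (Φ'.f i)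
    + (LinearMap.id - ∑ i, (S.Bl (Φ'.f i)).smulRight (Φ'.e i)).comp Φ.compL

theorem transLin_apply (Φ Φ' : Frame S n) (v : V) :
    transLin Φ Φ' v = ∑ i, S.B v (Φ.f i) • Φ'.e i + ∑ i, (S.τ S.ε * S.B v (Φ.e i)) • Φ'.f i
      + (Φ.comp v - ∑ i, S.B (Φ.comp v) (Φ'.f i) • Φ'.e i) := by
  simp [transLin, Frame.compL_apply, Space.Bl_apply]

/-- Two frames congruent on the same flag are related by a unipotent isometry. -/
theorem exists_transporter (Φ Φ' : Frame S n) (hcong : ∀ j : Fin n, Φ'.e j - Φ.e j ∈ Φ.E j.val) :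
    ∃ T : V ≃ₗ[F] V, S.IsIso T ∧ IsUnip Φ.cham T ∧ (∀ j, T (Φ.e j) = Φ'.e j) ∧ (∀ j, T (Φ.f j) = Φ'.f j) ∧
      ∀ z, (∀ i, S.B z (Φ.e i) = 0 ∧ S.B z (Φ.f i) = 0) → T z = z - ∑ i, S.B z (Φ'.f i) • Φ'.e i := by
  have he' : ∀ j : Fin n, Φ'.e j ∈ Φ.E n := fun j => by
    rw [show Φ'.e j = (Φ'.e j - Φ.e j) + Φ.e j by abel]
    exact Submodule.add_mem _ (Φ.E_mono j.2.le (hcong j)) (Φ.e_mem_E j.2)
  have hzz : ∀ v, ∀ i, S.B (Φ.comp v - ∑ l, S.B (Φ.comp v) (Φ'.f l) • Φ'.e l) (Φ'.e i) = 0 ∧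
      S.B (Φ.comp v - ∑ l, S.B (Φ.comp v) (Φ'.f l) • Φ'.e l) (Φ'.f i) = 0 := by
    intro v i
    have hp : Φ.comp v ∈ S.perp (Φ.E n) := Φ.mem_perp_E.2 fun l _ => (Φ.comp_orth v l).1
    refine ⟨?_, ?_⟩
    · rw [S.B_sub_left, Φ'.B_sum_e_e, hp _ (he' i), sub_zero]
    · rw [S.B_sub_left, Φ'.B_sum_e_left, sub_self]
  have hsumE : ∀ a : Fin n → F, ∑ l, a l • Φ'.e l ∈ Φ.E n :=
    fun a => Submodule.sum_mem _ fun l _ => Submodule.smul_mem _ _ (he' l)
  have hB : ∀ x y, S.B (transLin Φ Φ' x) (transLin Φ Φ' y) = S.B x y := by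
    intro x y
    rw [transLin_apply, transLin_apply, Φ'.B_decomp _ _ _ _ (hzz x) (hzz y)]
    conv_rhs => rw [Φ.decomp x, Φ.decomp y, Φ.B_decomp _ _ _ _ (Φ.comp_orth x) (Φ.comp_orth y)]
    congr 1
    have hpx : Φ.comp x ∈ S.perp (Φ.E n) := Φ.mem_perp_E.2 fun l _ => (Φ.comp_orth x l).1
    have hpy : Φ.comp y ∈ S.perp (Φ.E n) := Φ.mem_perp_E.2 fun l _ => (Φ.comp_orth y l).1
    rw [S.B_sub_left, S.B_sub_right, S.B_sub_right, hpx _ (hsumE _),
      S.B_eq_zero_symm (hpy _ (hsumE _)), (Φ.ts_E n _ (hsumE _)).2 _ (hsumE _)]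
    ring
  have hN : ∀ x, S.N (transLin Φ Φ' x) = S.N x := by
    intro x
    rw [transLin_apply, Φ'.N_decomp _ _ (hzz x)]
    conv_rhs => rw [Φ.decomp x, Φ.N_decomp _ _ (Φ.comp_orth x)]
    congr 1
    have hpx : Φ.comp x ∈ S.perp (Φ.E n) := Φ.mem_perp_E.2 fun l _ => (Φ.comp_orth x l).1
    have hm := Submodule.neg_mem _ (hsumE (fun l => S.B (Φ.comp x) (Φ'.f l)))
    rw [sub_eq_add_neg, S.N_add_orth (hpx _ hm), (Φ.ts_E n _ hm).1, add_zero]
  have hinj : Function.Injective (transLin Φ Φ') := by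
    rw [injective_iff_map_eq_zero]
    intro v hv
    refine Φ.eq_zero_of_rad (fun x => ?_) ?_
    · rw [← hB, hv, S.B_zero_left]
    · rw [← hN, hv, S.N_zero]
  let T : V ≃ₗ[F] V := LinearEquiv.ofBijective (transLin Φ Φ')
    ⟨hinj, LinearMap.injective_iff_surjective.1 hinj⟩
  have hT : ∀ v, T v = transLin Φ Φ' v := fun _ => rfl
  have hTe : ∀ j, T (Φ.e j) = Φ'.e j := fun j => by
    rw [hT, transLin_apply, Φ.comp_e]
    simp [Φ.ee, Φ.ef, S.B_zero_left]
  have hTf : ∀ j, T (Φ.f j) = Φ'.f j := fun j => by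
    have : S.τ S.ε * S.ε = 1 := by rw [mul_comm]; exact Φ.eps_mul j
    rw [hT, transLin_apply, Φ.comp_f]
    simp [Φ.ff, Φ.fe, S.B_zero_left, this]
  have hTz : ∀ z, (∀ i, S.B z (Φ.e i) = 0 ∧ S.B z (Φ.f i) = 0) →
      T z = z - ∑ i, S.B z (Φ'.f i) • Φ'.e i := fun z hz => by
    rw [hT, transLin_apply, Φ.comp_of_orth hz]
    simp [(hz _).1, (hz _).2]
  refine ⟨T, ⟨hB, hN⟩, ⟨fun k _ x hx => ?_, fun x hx => ?_⟩, hTe, hTf, hTz⟩
  · induction hx using Submodule.span_induction with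
    | mem x hx =>
      obtain ⟨⟨i, hi⟩, rfl⟩ := hx
      show T (Φ.e i) - Φ.e i ∈ Φ.E k
      rw [hTe]
      exact Φ.E_mono (Nat.lt_succ_iff.1 hi) (hcong i)
    | zero => simp
    | add x y _ _ ha hb =>
      rw [map_add, show T x + T y - (x + y) = (T x - x) + (T y - y) by abel]
      exact Submodule.add_mem _ ha hb
    | smul a x _ ha => rw [map_smul, ← smul_sub]; exact Submodule.smul_mem _ _ ha
  · have hb : ∀ i, S.B x (Φ.e i) = 0 := fun i => hx _ (Φ.e_mem_E i.2)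
    have hd := Φ.decomp x
    simp only [hb, mul_zero, zero_smul, Finset.sum_const_zero, add_zero] at hd
    show T x - x ∈ Φ.E n
    rw [hT, transLin_apply]
    simp only [hb, mul_zero, zero_smul, Finset.sum_const_zero, add_zero]
    rw [show ∑ i, S.B x (Φ.f i) • Φ'.e i + (Φ.comp x - ∑ i, S.B (Φ.comp x) (Φ'.f i) • Φ'.e i) - x =
      ∑ i, S.B x (Φ.f i) • Φ'.e i - ∑ i, S.B (Φ.comp x) (Φ'.f i) • Φ'.e i - ∑ i, S.B x (Φ.f i) • Φ.e i by
        conv_lhs => arg 2; rw [hd]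
        abel]
    exact Submodule.sub_mem _ (Submodule.sub_mem _ (hsumE _) (hsumE _))
      (Submodule.sum_mem _ fun i _ => Submodule.smul_mem _ _ (Φ.e_mem_E i.2))

/-- An Eichler change of frame at step `j`. -/
theorem exists_eichler (Φ : Frame S n) (j : Fin n) (a : V)
    (ha : ∀ i : Fin n, i.val ≤ j.val → S.B (Φ.e i) a = 0 ∧ S.B (Φ.f i) a = 0) (t : F)
    (ht : S.N a + S.φ (S.ε * S.τ t) = 0) :
    ∃ Φ' : Frame S n, (∀ i : Fin n, Φ'.e i - Φ.e i ∈ Φ.E i.val) ∧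
      (∀ i, Φ'.e i = Φ.e i - S.B (Φ.e i) a • Φ.e j) ∧
      Φ'.f j = Φ.f j + a + t • Φ.e j ∧ ∀ i, i ≠ j → Φ'.f i = Φ.f i - S.B (Φ.f i) a • Φ.e j := by
  classical
  set g : Fin n → V := fun i => if i = j then Φ.f j + a + t • Φ.e j else Φ.f i - S.B (Φ.f i) a • Φ.e j
    with hg
  have hgj : g j = Φ.f j + a + t • Φ.e j := if_pos rfl
  have hgi : ∀ i, i ≠ j → g i = Φ.f i - S.B (Φ.f i) a • Φ.e j := fun i hi => if_neg hi
  have haj := ha j le_rfl
  have hae : S.B a (Φ.e j) = 0 := S.B_eq_zero_symm haj.1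
  have hNgj : S.N (g j) = 0 := by
    have hb : S.B (Φ.f j + a) (t • Φ.e j) = S.ε * S.τ t := by
      rw [S.B_smul_right, S.B_add_left, Φ.fe, if_pos rfl, hae, add_zero, mul_comm]
    rw [hgj, S.N_add, hb, S.N_smul, Φ.Ne, mul_zero, add_zero, S.N_add_orth haj.2, Φ.Nf, zero_add, ht]
  have hff : ∀ i l, S.B (g i) (g l) = 0 := by
    have h1 : ∀ i, i ≠ j → S.B (g i) (g j) = 0 := fun i hi => by
      rw [hgi i hi, hgj]
      simp only [S.B_sub_left, S.B_smul_left, S.B_add_right, S.B_smul_right, Φ.ff, Φ.fe, Φ.ef, Φ.ee,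
        haj.1, if_neg hi, if_true]
      ring
    intro i l
    rcases eq_or_ne i j with rfl | hi <;> rcases eq_or_ne l i with rfl | hl
    · exact S.N_self _ hNgj
    · exact S.B_eq_zero_symm (h1 l hl)
    · rw [hgi _ hi]
      simp [S.B_sub_left, S.B_sub_right, S.B_smul_left, S.B_smul_right, Φ.ff, Φ.fe, Φ.ef, Φ.ee, hi, Ne.symm hi]
    · rcases eq_or_ne l j with rfl | hl'
      · exact h1 i hi
      · rw [hgi _ hi, hgi _ hl']
        simp [S.B_sub_left, S.B_sub_right, S.B_smul_left, S.B_smul_right, Φ.ff, Φ.fe, Φ.ef, Φ.ee, hi, Ne.symm hl']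
  refine ⟨{ e := fun i => Φ.e i - S.B (Φ.e i) a • Φ.e j
            f := g
            Ne := fun i => (Φ.ts_E n _ (Submodule.sub_mem _ (Φ.e_mem_E i.2)
              (Submodule.smul_mem _ _ (Φ.e_mem_E j.2)))).1
            Nf := fun i => ?_
            ee := fun i l => by simp [S.B_sub_left, S.B_sub_right, S.B_smul_left, S.B_smul_right, Φ.ee]
            ff := hff
            ef := fun i l => ?_
            aniso := fun z hz hN => ?_ }, fun i => ?_, fun _ => rfl, hgj, hgi⟩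
  · rcases eq_or_ne i j with rfl | hi
    · exact hNgj
    · rw [hgi i hi, sub_eq_add_neg, S.N_add, Φ.Nf,
        (Φ.ts_E n _ (Submodule.neg_mem _ (Submodule.smul_mem _ _ (Φ.e_mem_E j.2)))).1, zero_add, zero_add]
      rw [S.B_neg_right, S.B_smul_right, Φ.fe, if_neg hi, mul_zero, neg_zero, S.φ_zero]
  · rcases eq_or_ne l j with rfl | hl
    · rw [hgj]
      simp only [S.B_sub_left, S.B_smul_left, S.B_add_right, S.B_smul_right, Φ.ef, Φ.ee, haj.1, if_true]
      ring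
    · rw [hgi l hl]
      simp [S.B_sub_left, S.B_smul_left, S.B_sub_right, S.B_smul_right, Φ.ef, Φ.ee, Ne.symm hl]
  · have hzj : S.B z (Φ.e j) = 0 := by
      have := (hz j).1
      rwa [haj.1, zero_smul, sub_zero] at this
    have hze : ∀ i, S.B z (Φ.e i) = 0 := fun i => by
      have := (hz i).1
      rwa [S.B_sub_right, S.B_smul_right, hzj, mul_zero, sub_zero] at this
    have hzE : z ∈ Φ.E n := Φ.mem_E_of_singular (Φ.mem_perp_E.2 fun i _ => hze i) hN
    obtain ⟨hz1, -⟩ := Φ.mem_E.1 hzE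
    have hzf : ∀ i, i ≠ j → S.B z (Φ.f i) = 0 := fun i hi => by
      have := (hz i).2
      rwa [show g i = Φ.f i - S.B (Φ.f i) a • Φ.e j from hgi i hi, S.B_sub_right, S.B_smul_right,
        hzj, mul_zero, sub_zero] at this
    have hza : S.B z a = 0 := by
      rw [hz1, S.B_sum_left]
      refine Finset.sum_eq_zero fun i _ => ?_
      rcases eq_or_ne i j with rfl | hi
      · rw [S.B_smul_left, haj.1, mul_zero]
      · rw [S.B_smul_left, hzf i hi, zero_mul]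
    have hzfj : S.B z (Φ.f j) = 0 := by
      have := (hz j).2
      rwa [show g j = _ from hgj, S.B_add_right, S.B_add_right, S.B_smul_right, hzj, mul_zero, hza,
        add_zero, add_zero] at this
    rw [hz1]
    refine Finset.sum_eq_zero fun i _ => ?_
    rcases eq_or_ne i j with rfl | hi
    · rw [hzfj, zero_smul]
    · rw [hzf i hi, zero_smul]
  · show Φ.e i - S.B (Φ.e i) a • Φ.e j - Φ.e i ∈ Φ.E i.val
    rw [sub_sub_cancel_left]
    refine Submodule.neg_mem _ ?_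
    by_cases hij : j.val < i.val
    · exact Submodule.smul_mem _ _ (Φ.e_mem_E hij)
    · rw [(ha i (le_of_not_gt hij)).1, zero_smul]
      exact Submodule.zero_mem _

end Cfsg.Agent.Lib.SteinbergFlag
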